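import Cfsg.Agent.Lib.KnownB.Fi23Mult.Kill
import Cfsg.Agent.Lib.PresCert.WideBase
import Cfsg.Agent.Lib.Spor.Fi23.Simple

/-!
The word identities needed for the multiplier of `Fi₂₃`: an element fixing the base of the certified
stabiliser chain is trivial.
-/

set_option autoImplicit false
set_option maxRecDepth 100000
set_option Elab.async false

namespace CfsgLib.KnownB.Fi23Mult

open CfsgLib.PresCert Cfsg.Spor
open CfsgLib.KnownB.Fi22Mult (val)

/-- table numbering of a node -/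
def tn (i : ℕ) : ℕ := CfsgLib.Spor.Fi23.idx (ndG i)

/-- a word fixes the base -/
noncomputable def fixesBase (w : List ℕ) : Bool :=
  (CfsgLib.Spor.Fi23.Perm.levels.map Level.base).all fun p =>
    Nat.beq (CfsgLib.Spor.Fi23.Perm.data.app (w.reverse.map tn) p) p

theorem good_ok : (goodWords.all fixesBase) = true := by decide +kernel

theorem levels_prod :
    (CfsgLib.Spor.Fi23.Perm.levels.map Level.len).prod = 4089470473293004800 := by decide +kernel

theorem π_val (w : List ℕ) (i : Fin CfsgLib.Spor.Fi23.Perm.data.n) :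
    ((CfsgLib.Spor.Fi23.π (val gen w) i : Fin _) : ℕ) =
      CfsgLib.Spor.Fi23.Perm.data.app (w.reverse.map tn) i := by
  have h : val gen w = ((w.map ndG).map CfsgLib.Spor.Fi23.gen).prod := by
    rw [val, List.map_map]; rfl
  rw [h, CfsgLib.Spor.Fi23.π_word, List.map_map, List.map_reverse]
  rfl

theorem mem_grp (g : Cfsg.Spor.Fi23) : CfsgLib.Spor.Fi23.π g ∈
    Wide.PermData.grp (Wide.PermData.interp CfsgLib.Spor.Fi23.Perm.invol_ok) := by
  have hle : Subgroup.closure (Set.range (PresentedGroup.of (rels :=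
      coxRelators Fi23.edges ∪ {r | r ∈ Fi23.extra}))) ≤
      (Wide.PermData.grp (Wide.PermData.interp CfsgLib.Spor.Fi23.Perm.invol_ok)).comap
        CfsgLib.Spor.Fi23.π := by
    rw [Subgroup.closure_le]
    rintro _ ⟨x, rfl⟩
    exact Subgroup.subset_closure ⟨CfsgLib.Spor.Fi23.idx x, CfsgLib.Spor.Fi23.idx_lt x,
      (Wide.rep_of CfsgLib.Spor.Fi23.Perm.invol_ok CfsgLib.Spor.Fi23.wordsFor
        CfsgLib.Spor.Fi23.relNums_ok CfsgLib.Spor.Fi23.rels_covered x).symm⟩
  rw [PresentedGroup.closure_range_of] at hle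
  exact hle (Subgroup.mem_top g)

theorem card_grp_le : Nat.card
    (Wide.PermData.grp (Wide.PermData.interp CfsgLib.Spor.Fi23.Perm.invol_ok)) ≤
      4089470473293004800 := by
  haveI := CfsgLib.Spor.Fi23.finite
  have hle : Wide.PermData.grp (Wide.PermData.interp CfsgLib.Spor.Fi23.Perm.invol_ok) ≤
      CfsgLib.Spor.Fi23.π.range := by
    rw [Wide.PermData.grp, Subgroup.closure_le]
    rintro _ ⟨k, hk, rfl⟩
    obtain ⟨x, rfl⟩ := CfsgLib.Spor.Fi23.idx_surj k hk
    exact ⟨CfsgLib.Spor.Fi23.gen x, Wide.rep_of CfsgLib.Spor.Fi23.Perm.invol_ok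
      CfsgLib.Spor.Fi23.wordsFor CfsgLib.Spor.Fi23.relNums_ok CfsgLib.Spor.Fi23.rels_covered x⟩
  exact (Nat.le_of_dvd Nat.card_pos (Subgroup.card_dvd_of_le hle)).trans
    ((Nat.card_le_card_of_surjective _ CfsgLib.Spor.Fi23.π.rangeRestrict_surjective).trans
      CfsgLib.Spor.Fi23.natCard.le)

theorem val_good : ∀ w ∈ goodWords, val gen w = 1 := by
  intro w hw
  have hfix := List.all_eq_true.1 (List.all_eq_true.1 good_ok w hw)
  refine CfsgLib.Spor.Fi23.π_injective ?_
  rw [map_one]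
  refine Wide.PermData.eq_one_of_fix (Wide.PermData.interp CfsgLib.Spor.Fi23.Perm.invol_ok)
    CfsgLib.Spor.Fi23.Perm.words_ok CfsgLib.Spor.Fi23.Perm.levels CfsgLib.Spor.Fi23.Perm.levels_ok
    (card_grp_le.trans levels_prod.ge) _ (mem_grp _) fun i hi => Fin.ext ?_
  rw [π_val]
  exact Nat.eq_of_beq_eq_true (hfix i hi)

/-- The Schur multiplier of the presented group `Fi₂₃` is trivial. -/
theorem schur_multiplier : Cfsg.HasCyclicSchurMultiplier Cfsg.Spor.Fi23 1 := by
  haveI := CfsgLib.Spor.Fi23.finite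
  refine ⟨⟨Cfsg.Spor.Fi23, inferInstance, inferInstance, MonoidHom.id _,
    ⟨Function.surjective_id, ?_, ?_⟩, ?_⟩, fun Γ _ _ σ hσ => ?_⟩
  · rw [MonoidHom.ker_id]; exact bot_le
  · rw [MonoidHom.ker_id]; exact bot_le
  · rw [MonoidHom.ker_id]
    exact ⟨MulEquiv.ofUnique⟩
  · refine ⟨1, fun g => ⟨1, ?_⟩⟩
    have h : (g : Γ) = 1 :=
      Subgroup.mem_bot.1 ((ker_eq_bot_of_good val_good σ hσ).le g.2)
    exact (Subtype.ext h.symm)

end CfsgLib.KnownB.Fi23Mult
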