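/-! Generated words and reductions for the Schur multiplier of `Fi₂₃`. -/

set_option autoImplicit false
set_option maxRecDepth 100000

namespace CfsgLib.KnownB.Fi23Mult

/-- the transposition paired with `b` -/
def pairB : List Nat := [1, 2, 3, 7, 8, 4, 3, 7, 5, 4, 3, 2, 3, 4, 5, 7, 3, 4, 8, 7, 3, 2, 1]

/-- the transposition paired with `c` -/
def pairC : List Nat := [2, 3, 7, 8, 4, 3, 7, 5, 4, 3, 2, 1, 2, 3, 4, 5, 7, 3, 4, 8, 7, 3, 2]

/-- the transposition paired with `e` -/
def pairE : List Nat := [4, 3, 7, 8, 2, 3, 7, 5, 4, 3, 2, 1, 2, 3, 4, 5, 7, 3, 2, 8, 7, 3, 4]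

/-- the transposition paired with `f` -/
def pairF : List Nat := [5, 4, 3, 7, 8, 2, 3, 7, 4, 3, 2, 1, 2, 3, 4, 7, 3, 2, 8, 7, 3, 4, 5]

/-- three cubed translations -/
def cubeParts : List (List Nat × List Nat) := [([5], [5, 4, 3, 7, 8, 2, 3, 7, 4, 3, 2, 1, 2, 3, 4, 7, 3, 2, 8, 7, 3, 4, 5]),
    ([7], [7, 8, 3, 4, 2, 3, 7, 5, 4, 3, 2, 1, 2, 3, 4, 5, 7, 3, 2, 4, 3, 8, 7]),
    ([7, 3, 4, 2, 3, 7, 5, 4, 3, 2, 1, 2, 3, 4, 5, 7, 3, 2, 4, 3, 7], [8])]

/-- the transpositions forming the first conjugating element -/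
def confV : List (List Nat) := [[2, 3, 7, 8, 4, 3, 7, 5, 4, 3, 2, 3, 4, 5, 7, 3, 4, 8, 7, 3, 2],
    [8, 2, 3, 7, 4, 5, 3, 4, 2, 3, 7, 9, 6, 5, 4, 3, 2, 1, 0, 1, 2, 3, 4, 5,
    6, 9, 7, 3, 2, 4, 3, 5, 4, 7, 3, 2, 8],
    [2, 3, 7, 4, 5, 3, 4, 1, 2, 3, 7, 8, 7, 6, 5, 3, 4, 2, 3, 7, 9, 6, 5, 4,
    3, 2, 1, 0, 1, 2, 3, 4, 5, 6, 9, 7, 3, 2, 4, 3, 5, 6, 7, 8, 7, 3, 2, 1,
    4, 3, 5, 4, 7, 3, 2],
    [3, 4, 0, 1, 2, 3, 7, 8, 5, 4, 3, 7, 6, 5, 4, 3, 2, 3, 4, 5, 6, 7, 3, 4,
    5, 8, 7, 3, 2, 1, 0, 4, 3]]

/-- the transpositions commuting with the order three element -/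
def confW : List (List Nat) := [[6, 5, 3, 4, 2, 3, 7, 8, 6, 5, 3, 4, 2, 3, 7, 9, 6, 5, 4, 3, 2, 1, 2, 3,
    4, 5, 6, 9, 7, 3, 2, 4, 3, 5, 6, 8, 7, 3, 2, 4, 3, 5, 6],
    [9, 6, 5, 3, 4, 2, 3, 7, 8, 7, 6, 4, 5, 3, 4, 2, 3, 7, 9, 6, 5, 4, 3, 2,
    1, 2, 3, 4, 5, 6, 9, 7, 3, 2, 4, 3, 5, 4, 6, 7, 8, 7, 3, 2, 4, 3, 5, 6,
    9],
    [3, 4, 0, 1, 2, 3, 7, 8, 6, 5, 4, 3, 7, 9, 5, 6, 4, 5, 2, 3, 4, 1, 2, 3,
    7, 8, 6, 5, 2, 3, 4, 1, 2, 3, 7, 9, 6, 5, 4, 3, 2, 1, 0, 1, 2, 3, 4, 5,
    6, 9, 7, 3, 2, 1, 4, 3, 2, 5, 6, 8, 7, 3, 2, 1, 4, 3, 2, 5, 4, 6, 5, 9,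
    7, 3, 4, 5, 6, 8, 7, 3, 2, 1, 0, 4, 3],
    [0, 1, 2, 3, 7, 8, 5, 4, 3, 7, 5, 6, 4, 5, 2, 3, 4, 1, 2, 3, 7, 8, 5, 3,
    4, 1, 2, 3, 7, 9, 6, 5, 4, 3, 2, 1, 0, 1, 2, 3, 4, 5, 6, 9, 7, 3, 2, 1,
    4, 3, 5, 8, 7, 3, 2, 1, 4, 3, 2, 5, 4, 6, 5, 7, 3, 4, 5, 8, 7, 3, 2, 1,
    0]]

/-- reduction moves -/
def movesP : List (Nat × Nat) := [(394,2), (371,1), (370,0), (369,0), (368,0), (367,0), (366,0), (365,0), (364,0), (363,0), (362,0), (360,1),
    (359,2), (348,2), (346,2), (345,2), (344,2), (343,2), (348,0), (347,0), (346,0), (345,0), (344,0), (343,0),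
    (349,1), (348,0), (347,0), (346,0), (351,0), (349,1), (348,0), (353,0), (352,0), (354,0), (361,0), (359,1),
    (358,0), (357,0), (356,0), (355,0), (353,1), (351,1), (350,0), (349,0), (347,1), (345,1), (344,0), (342,1),
    (341,0), (340,0), (339,0), (338,0), (337,0), (335,1), (334,2), (353,0), (352,0), (351,0), (350,0), (348,1),
    (360,0), (359,0), (357,1), (356,0), (354,1), (353,0), (352,0), (350,1), (349,0), (347,1), (346,0), (345,0),
    (343,1), (342,0), (340,1), (339,0), (338,0), (337,0), (335,1), (334,0), (333,2), (344,0), (351,0), (359,0),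
    (358,0), (357,0), (355,1), (354,0), (352,1), (350,1), (349,0), (348,0), (347,0), (345,1), (343,1), (342,0),
    (341,0), (340,0), (338,1), (337,0), (335,1), (334,0), (333,0), (332,2), (336,0), (335,0), (337,0), (340,0),
    (339,0), (346,1), (345,0), (344,0), (343,0), (342,0), (341,0), (340,0), (338,1), (336,1), (334,1), (333,0),
    (332,0), (331,0), (330,2), (338,0), (337,0), (340,0), (346,0), (344,1), (343,0), (342,0), (341,0), (339,1),
    (338,0), (336,1), (335,0), (334,0), (332,1), (331,0), (330,0), (329,2), (339,0), (338,0), (337,0), (341,0),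
    (346,0), (345,0), (344,0), (342,1), (340,1), (339,0), (338,0), (336,1), (335,0), (334,0), (333,0), (332,0),
    (330,1), (329,0), (328,2), (327,0), (326,0), (325,0), (323,1), (322,2), (330,0), (338,0), (342,0), (341,0),
    (339,1), (337,1), (336,0), (335,0), (334,0), (333,0), (331,1), (329,1), (328,0), (327,0), (326,0), (325,0),
    (323,1), (322,0), (321,2), (341,0), (339,1), (338,0), (337,0), (335,1), (334,0), (333,0), (331,1), (330,0),
    (329,0), (327,1), (326,0), (325,0), (323,1), (322,0), (321,0), (320,2), (328,0), (339,1), (338,0), (337,0),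
    (336,0), (335,0), (333,1), (332,0), (331,0), (329,1), (327,1), (326,0), (325,0), (323,1), (322,0), (321,0),
    (320,0), (319,2), (323,0), (322,0), (321,0), (320,0), (319,0), (324,0), (323,0), (325,0), (339,0), (338,0),
    (337,0), (336,0), (340,0), (339,0), (341,0), (344,0), (343,0), (347,0), (346,0), (345,0), (344,0), (342,1),
    (340,1), (338,1), (337,0), (335,1), (334,0), (333,0), (332,0), (331,0), (330,0), (329,0), (328,0), (326,1),
    (324,1), (322,1), (321,0), (320,0), (318,1), (317,0), (316,0), (315,0), (314,0), (312,1), (311,2), (326,0),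
    (325,0), (342,0), (341,0), (344,0), (346,0), (345,0), (343,1), (342,0), (340,1), (339,0), (338,0), (336,1),
    (335,0), (333,1), (332,0), (331,0), (330,0), (329,0), (327,1), (326,0), (324,1), (323,0), (322,0), (320,1),
    (319,0), (318,0), (316,1), (315,0), (314,0), (312,1), (311,0), (310,2), (321,0), (337,0), (344,0), (345,0),
    (343,1), (342,0), (341,0), (340,0), (338,1), (336,1), (335,0), (334,0), (333,0), (331,1), (330,0), (329,0),
    (327,1), (326,0), (325,0), (324,0), (322,1), (320,1), (319,0), (318,0), (317,0), (316,0), (314,1), (312,1),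
    (311,0), (310,0), (309,2), (312,0), (328,0), (327,0), (326,0), (325,0), (324,0), (329,0), (328,0), (330,0),
    (333,0), (332,0), (343,0), (342,0), (341,0), (340,0), (344,0), (348,0), (347,0), (345,1), (343,1), (342,0),
    (341,0), (339,1), (338,0), (337,0), (336,0), (335,0), (334,0), (333,0), (331,1), (329,1), (327,1), (326,0),
    (325,0), (323,1), (322,0), (321,0), (320,0), (319,0), (317,1), (316,0), (315,0), (313,1), (311,1), (310,0),
    (309,0), (308,2), (331,0), (330,0), (333,0), (347,0), (345,1), (344,0), (343,0), (341,1), (340,0), (339,0),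
    (337,1), (336,0), (335,0), (334,0), (332,1), (331,0), (329,1), (328,0), (327,0), (325,1), (324,0), (323,0),
    (321,1), (320,0), (319,0), (317,1), (316,0), (315,0), (313,1), (312,0), (311,0), (309,1), (308,0), (307,2),
    (318,0), (332,0), (331,0), (330,0), (334,0), (345,1), (344,0), (343,0), (342,0), (341,0), (339,1), (338,0),
    (337,0), (335,1), (333,1), (332,0), (331,0), (329,1), (328,0), (327,0), (326,0), (325,0), (323,1), (322,0),
    (321,0), (319,1), (317,1), (316,0), (315,0), (313,1), (312,0), (311,0), (310,0), (309,0), (307,1), (306,2),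
    (300,2), (298,2), (297,2), (296,2), (295,2), (294,2), (293,1), (292,0), (291,0), (290,0), (289,0), (295,0),
    (293,1), (292,0), (291,0), (296,0), (295,0), (293,1), (297,0), (296,0), (298,0), (299,1), (297,1), (295,1),
    (294,0), (292,1), (290,1), (288,1), (287,2), (286,2), (286,0), (285,2), (286,0), (285,0), (284,2), (286,1),
    (285,0), (284,0), (283,2), (287,0), (286,0), (284,1), (283,0), (282,2), (287,0), (286,0), (285,0), (284,0),
    (282,1), (281,2), (287,0), (286,0), (288,0), (289,1), (287,1), (285,1), (284,0), (283,0), (282,0), (281,0),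
    (280,0), (279,0), (278,0), (285,0), (287,0), (291,1), (290,0), (289,0), (288,0), (286,1), (284,1), (283,0),
    (282,0), (281,0), (280,0), (290,0), (289,0), (293,0), (291,1), (290,0), (288,1), (287,0), (286,0), (284,1),
    (283,0), (282,0), (287,0), (294,0), (293,0), (291,1), (290,0), (288,1), (286,1), (285,0), (284,0), (295,1),
    (294,0), (293,0), (292,0), (291,0), (290,0), (289,0), (297,0), (295,1), (294,0), (293,0), (292,0), (298,0),
    (297,0), (295,1), (294,0), (299,0), (298,0), (300,0), (301,1), (299,1), (297,1), (296,0), (295,0), (293,1),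
    (291,1), (290,0), (288,1), (287,0), (286,0), (285,0), (283,1), (281,1), (279,1), (277,1), (276,2), (274,2),
    (273,2), (273,0), (272,2), (273,0), (272,0), (271,2), (273,0), (272,0), (271,0), (270,2), (273,0), (272,0),
    (271,0), (270,0), (274,0), (275,1), (273,1), (272,0), (271,0), (269,1), (268,0), (267,0), (266,0), (265,0),
    (278,0), (279,0), (277,1), (276,0), (275,0), (273,1), (272,0), (271,0), (269,1), (268,0), (267,0), (276,0),
    (281,0), (280,0), (279,0), (277,1), (275,1), (274,0), (273,0), (272,0), (271,0), (269,1), (283,0), (282,0),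
    (281,0), (284,1), (283,0), (282,0), (280,1), (279,0), (278,0), (277,0), (276,0), (274,1), (273,0), (272,0),
    (287,0), (286,0), (284,1), (283,0), (282,0), (280,1), (279,0), (278,0), (276,1), (275,0), (274,0), (279,0),
    (289,0), (288,0), (287,0), (286,0), (284,1), (283,0), (282,0), (280,1), (278,1), (277,0), (276,0), (291,0),
    (290,0), (292,0), (293,1), (291,1), (289,1), (288,0), (287,0), (286,0), (285,0), (284,0), (283,0), (282,0),
    (281,0), (289,0), (291,0), (295,1), (294,0), (293,0), (292,0), (290,1), (288,1), (287,0), (286,0), (285,0),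
    (284,0), (294,0), (293,0), (297,0), (295,1), (294,0), (292,1), (291,0), (290,0), (288,1), (287,0), (286,0),
    (291,0), (298,0), (297,0), (295,1), (294,0), (292,1), (290,1), (289,0), (288,0), (299,1), (298,0), (297,0),
    (296,0), (295,0), (294,0), (293,0), (301,0), (299,1), (298,0), (297,0), (296,0), (302,0), (301,0), (299,1),
    (298,0), (303,0), (302,0), (304,0), (305,1), (303,1), (301,1), (300,0), (299,0), (297,1), (295,1), (294,0),
    (292,1), (291,0), (290,0), (289,0), (287,1), (285,1), (283,1), (282,0), (280,1), (279,0), (278,0), (277,0),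
    (275,1), (273,1), (271,1), (270,0), (268,1), (266,1), (264,1), (263,2), (262,2), (262,0), (261,2), (262,0),
    (261,0), (260,2), (262,1), (261,0), (260,0), (259,2), (263,0), (262,0), (260,1), (259,0), (258,2), (263,0),
    (262,0), (261,0), (260,0), (258,1), (257,2), (251,2), (261,0), (260,0), (262,0), (263,1), (261,1), (259,1),
    (258,0), (257,0), (256,0), (255,0), (254,0), (253,0), (252,0), (250,1), (249,2), (257,0), (259,0), (264,0),
    (265,0), (263,1), (262,0), (261,0), (260,0), (258,1), (256,1), (255,0), (254,0), (253,0), (252,0), (250,1),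
    (249,0), (248,2), (260,0), (259,0), (265,0), (264,0), (263,0), (261,1), (260,0), (258,1), (257,0), (256,0),
    (254,1), (253,0), (252,0), (250,1), (249,0), (248,0), (247,2), (255,0), (265,0), (264,0), (263,0), (262,0),
    (261,0), (259,1), (258,0), (256,1), (254,1), (253,0), (252,0), (250,1), (249,0), (248,0), (247,0), (246,2),
    (250,0), (249,0), (248,0), (247,0), (246,0), (251,0), (250,0), (252,0), (265,0), (264,0), (263,0), (262,0),
    (266,0), (267,1), (265,1), (264,0), (263,0), (261,1), (260,0), (259,0), (258,0), (257,0), (256,0), (255,0),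
    (253,1), (251,1), (249,1), (248,0), (247,0), (245,1), (244,0), (243,0), (242,0), (241,0), (239,1), (238,2),
    (253,0), (252,0), (268,0), (269,0), (267,1), (266,0), (265,0), (263,1), (262,0), (261,0), (259,1), (258,0),
    (257,0), (256,0), (254,1), (253,0), (251,1), (250,0), (249,0), (247,1), (246,0), (245,0), (243,1), (242,0),
    (241,0), (239,1), (238,0), (237,2), (248,0), (264,0), (269,0), (268,0), (267,0), (265,1), (263,1), (262,0),
    (261,0), (260,0), (259,0), (257,1), (256,0), (254,1), (253,0), (252,0), (251,0), (249,1), (247,1), (246,0),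
    (245,0), (244,0), (243,0), (241,1), (239,1), (238,0), (237,0), (236,2), (239,0), (254,0), (253,0), (252,0),
    (251,0), (255,0), (269,0), (268,0), (267,0), (270,1), (269,0), (268,0), (266,1), (265,0), (264,0), (263,0),
    (262,0), (260,1), (259,0), (258,0), (256,1), (254,1), (253,0), (252,0), (250,1), (249,0), (248,0), (247,0),
    (246,0), (244,1), (243,0), (242,0), (240,1), (238,1), (237,0), (236,0), (235,2), (271,0), (270,0), (268,1),
    (267,0), (266,0), (264,1), (263,0), (262,0), (260,1), (259,0), (258,0), (256,1), (255,0), (254,0), (252,1),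
    (251,0), (250,0), (248,1), (247,0), (246,0), (244,1), (243,0), (242,0), (240,1), (239,0), (238,0), (236,1),
    (235,0), (234,2), (245,0), (261,0), (271,0), (270,0), (269,0), (268,0), (266,1), (265,0), (264,0), (262,1),
    (260,1), (259,0), (258,0), (256,1), (255,0), (254,0), (253,0), (252,0), (250,1), (249,0), (248,0), (246,1),
    (244,1), (243,0), (242,0), (240,1), (239,0), (238,0), (237,0), (236,0), (234,1), (233,2), (226,2), (225,0),
    (224,0), (226,0), (227,0), (225,1), (223,1), (222,0), (221,0), (220,0), (219,2), (218,0), (221,0), (219,1),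
    (217,1), (216,0), (215,0), (214,0), (223,0), (221,1), (220,0), (219,0), (217,1), (216,0), (228,0), (227,0),
    (226,0), (225,0), (224,0), (229,0), (228,0), (227,0), (226,0), (225,0), (223,1), (222,0), (221,0), (220,0),
    (219,0), (217,1), (215,1), (213,1), (212,0), (211,0), (210,2), (219,0), (226,1), (225,0), (224,0), (223,0),
    (222,0), (220,1), (218,1), (217,0), (216,0), (228,1), (227,0), (230,1), (229,0), (228,0), (226,1), (225,0),
    (224,0), (222,1), (221,0), (220,0), (218,1), (217,0), (215,1), (214,0), (213,0), (211,1), (210,0), (209,2),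
    (212,0), (219,0), (232,0), (231,0), (233,0), (232,0), (230,1), (229,0), (228,0), (227,0), (226,0), (224,1),
    (223,0), (222,0), (220,1), (218,1), (217,0), (216,0), (215,0), (213,1), (211,1), (210,0), (209,0), (208,2),
    (203,2), (205,1), (204,0), (203,0), (202,0), (201,0), (200,0), (207,0), (205,1), (204,0), (203,0), (202,0),
    (205,0), (209,0), (208,0), (207,0), (223,0), (222,0), (221,0), (220,0), (219,0), (218,0), (217,0), (224,1),
    (223,0), (222,0), (221,0), (220,0), (226,0), (224,1), (223,0), (222,0), (228,0), (227,0), (230,0), (229,0),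
    (232,0), (231,0), (230,0), (228,1), (226,1), (225,0), (224,0), (231,0), (230,0), (229,0), (232,0), (233,0),
    (231,1), (230,0), (228,1), (227,0), (226,0), (225,0), (223,1), (221,1), (219,1), (218,0), (216,1), (215,0),
    (214,0), (213,0), (212,0), (211,0), (210,0), (209,0), (208,0), (206,1), (204,1), (203,0), (201,1), (199,1),
    (198,0), (197,0), (196,0), (195,2), (194,0), (197,0), (195,1), (193,1), (192,0), (191,0), (190,0), (199,0),
    (197,1), (196,0), (195,0), (193,1), (192,0), (211,0), (210,0), (212,0), (216,0), (215,0), (213,1), (211,1),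
    (209,1), (208,0), (207,0), (206,0), (205,0), (204,0), (203,0), (202,0), (201,0), (200,0), (209,0), (208,0),
    (207,0), (206,0), (211,0), (210,0), (213,0), (212,0), (223,0), (222,0), (221,0), (220,0), (219,0), (218,0),
    (217,0), (216,0), (215,0), (214,0), (213,0), (211,1), (209,1), (218,0), (216,1), (215,0), (214,0), (213,0),
    (212,0), (220,0), (219,0), (218,0), (216,1), (215,0), (224,0), (223,0), (225,1), (224,0), (222,1), (221,0),
    (220,0), (219,0), (228,0), (229,0), (227,1), (226,0), (225,0), (224,0), (222,1), (221,0), (234,0), (233,0),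
    (232,0), (231,0), (230,0), (235,0), (234,0), (233,0), (232,0), (231,0), (229,1), (228,0), (227,0), (226,0),
    (225,0), (224,0), (222,1), (220,1), (218,1), (217,0), (216,0), (214,1), (213,0), (211,1), (210,0), (208,1),
    (207,0), (205,1), (204,0), (203,0), (202,0), (201,0), (199,1), (198,0), (197,0), (196,0), (195,0), (193,1),
    (191,1), (189,1), (188,0), (187,0), (186,2), (195,0), (205,0), (204,0), (202,1), (201,0), (200,0), (199,0),
    (198,0), (196,1), (194,1), (193,0), (192,0), (206,0), (204,1), (203,0), (208,1), (207,0), (224,0), (223,0),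
    (222,0), (221,0), (220,0), (219,0), (218,0), (217,0), (215,1), (225,0), (232,1), (231,0), (230,0), (229,0),
    (228,0), (226,1), (224,1), (223,0), (222,0), (234,1), (233,0), (236,1), (235,0), (234,0), (232,1), (231,0),
    (230,0), (228,1), (227,0), (226,0), (224,1), (223,0), (221,1), (220,0), (219,0), (217,1), (216,0), (214,1),
    (213,0), (212,0), (211,0), (210,0), (208,1), (206,1), (205,0), (204,0), (202,1), (201,0), (200,0), (198,1),
    (197,0), (196,0), (194,1), (193,0), (191,1), (190,0), (189,0), (187,1), (186,0), (185,2), (188,0), (195,0),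
    (210,0), (211,0), (209,1), (208,0), (207,0), (218,0), (225,0), (238,0), (237,0), (239,0), (238,0), (236,1),
    (235,0), (234,0), (233,0), (232,0), (230,1), (229,0), (228,0), (226,1), (224,1), (223,0), (222,0), (221,0),
    (219,1), (217,1), (216,0), (215,0), (214,0), (212,1), (211,0), (209,1), (208,0), (206,1), (205,0), (204,0),
    (203,0), (202,0), (200,1), (199,0), (198,0), (196,1), (194,1), (193,0), (192,0), (191,0), (189,1), (187,1),
    (186,0), (185,0), (184,2), (179,2), (181,1), (180,0), (179,0), (178,0), (177,0), (176,0), (183,0), (181,1),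
    (180,0), (179,0), (178,0), (181,0), (185,0), (184,0), (183,0), (199,0), (198,0), (197,0), (196,0), (195,0),
    (194,0), (193,0), (200,1), (199,0), (198,0), (197,0), (196,0), (202,0), (200,1), (199,0), (198,0), (204,0),
    (203,0), (205,0), (208,0), (207,0), (206,0), (204,1), (202,1), (201,0), (200,0), (211,1), (210,0), (209,0),
    (208,0), (207,0), (206,0), (205,0), (213,0), (211,1), (210,0), (209,0), (208,0), (211,0), (215,0), (214,0),
    (213,0), (229,0), (228,0), (227,0), (226,0), (225,0), (224,0), (223,0), (230,1), (229,0), (228,0), (227,0),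
    (226,0), (232,0), (230,1), (229,0), (228,0), (234,0), (233,0), (236,0), (235,0), (238,0), (237,0), (236,0),
    (234,1), (232,1), (231,0), (230,0), (237,0), (236,0), (235,0), (238,0), (239,0), (237,1), (236,0), (234,1),
    (233,0), (232,0), (231,0), (229,1), (227,1), (225,1), (224,0), (222,1), (221,0), (220,0), (219,0), (218,0),
    (217,0), (216,0), (215,0), (214,0), (212,1), (210,1), (209,0), (207,1), (206,0), (204,1), (203,0), (202,0),
    (201,0), (199,1), (197,1), (195,1), (194,0), (192,1), (191,0), (190,0), (189,0), (188,0), (187,0), (186,0),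
    (185,0), (184,0), (182,1), (180,1), (179,0), (177,1), (175,1), (174,0), (173,0), (172,0), (171,2), (170,0),
    (173,0), (171,1), (169,1), (168,0), (167,0), (166,0), (175,0), (173,1), (172,0), (171,0), (169,1), (168,0),
    (187,0), (186,0), (188,0), (192,0), (191,0), (189,1), (187,1), (185,1), (184,0), (183,0), (182,0), (181,0),
    (180,0), (179,0), (178,0), (177,0), (176,0), (185,0), (184,0), (183,0), (182,0), (187,0), (186,0), (189,0),
    (188,0), (199,0), (198,0), (197,0), (196,0), (195,0), (194,0), (193,0), (192,0), (191,0), (190,0), (189,0),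
    (187,1), (185,1), (194,0), (192,1), (191,0), (190,0), (189,0), (188,0), (196,0), (195,0), (194,0), (192,1),
    (191,0), (200,0), (199,0), (201,1), (200,0), (198,1), (197,0), (196,0), (195,0), (204,0), (205,0), (203,1),
    (202,0), (201,0), (200,0), (198,1), (197,0), (217,0), (216,0), (218,0), (222,0), (221,0), (219,1), (217,1),
    (215,1), (214,0), (213,0), (212,0), (211,0), (210,0), (209,0), (208,0), (207,0), (206,0), (215,0), (214,0),
    (213,0), (212,0), (217,0), (216,0), (219,0), (218,0), (229,0), (228,0), (227,0), (226,0), (225,0), (224,0),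
    (223,0), (222,0), (221,0), (220,0), (219,0), (217,1), (215,1), (224,0), (222,1), (221,0), (220,0), (219,0),
    (218,0), (226,0), (225,0), (224,0), (222,1), (221,0), (230,0), (229,0), (231,1), (230,0), (228,1), (227,0),
    (226,0), (225,0), (234,0), (235,0), (233,1), (232,0), (231,0), (230,0), (228,1), (227,0), (240,0), (239,0),
    (238,0), (237,0), (236,0), (241,0), (240,0), (239,0), (238,0), (237,0), (235,1), (234,0), (233,0), (232,0),
    (231,0), (230,0), (228,1), (226,1), (224,1), (223,0), (222,0), (220,1), (219,0), (217,1), (216,0), (214,1),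
    (213,0), (211,1), (210,0), (209,0), (208,0), (207,0), (205,1), (204,0), (203,0), (202,0), (201,0), (200,0),
    (198,1), (196,1), (194,1), (193,0), (192,0), (190,1), (189,0), (187,1), (186,0), (184,1), (183,0), (181,1),
    (180,0), (179,0), (178,0), (177,0), (175,1), (174,0), (173,0), (172,0), (171,0), (169,1), (167,1), (165,1),
    (164,0), (163,0), (162,2), (171,0), (181,0), (180,0), (178,1), (177,0), (176,0), (175,0), (174,0), (172,1),
    (170,1), (169,0), (168,0), (182,0), (180,1), (179,0), (184,1), (183,0), (200,0), (199,0), (198,0), (197,0),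
    (196,0), (195,0), (194,0), (193,0), (191,1), (201,0), (211,0), (210,0), (208,1), (207,0), (206,0), (205,0),
    (204,0), (202,1), (200,1), (199,0), (198,0), (212,0), (210,1), (209,0), (214,1), (213,0), (230,0), (229,0),
    (228,0), (227,0), (226,0), (225,0), (224,0), (223,0), (221,1), (231,0), (238,1), (237,0), (236,0), (235,0),
    (234,0), (232,1), (230,1), (229,0), (228,0), (240,1), (239,0), (242,1), (241,0), (240,0), (238,1), (237,0),
    (236,0), (234,1), (233,0), (232,0), (230,1), (229,0), (227,1), (226,0), (225,0), (223,1), (222,0), (220,1),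
    (219,0), (218,0), (217,0), (216,0), (214,1), (212,1), (211,0), (210,0), (208,1), (207,0), (206,0), (204,1),
    (203,0), (202,0), (200,1), (199,0), (197,1), (196,0), (195,0), (193,1), (192,0), (190,1), (189,0), (188,0),
    (187,0), (186,0), (184,1), (182,1), (181,0), (180,0), (178,1), (177,0), (176,0), (174,1), (173,0), (172,0),
    (170,1), (169,0), (167,1), (166,0), (165,0), (163,1), (162,0), (161,2), (164,0), (171,0), (186,0), (187,0),
    (185,1), (184,0), (183,0), (194,0), (201,0), (216,0), (217,0), (215,1), (214,0), (213,0), (224,0), (231,0),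
    (243,0), (244,0), (242,1), (241,0), (240,0), (239,0), (238,0), (236,1), (235,0), (234,0), (232,1), (230,1),
    (229,0), (228,0), (227,0), (225,1), (223,1), (222,0), (221,0), (220,0), (218,1), (217,0), (215,1), (214,0),
    (212,1), (211,0), (210,0), (209,0), (208,0), (206,1), (205,0), (204,0), (202,1), (200,1), (199,0), (198,0),
    (197,0), (195,1), (193,1), (192,0), (191,0), (190,0), (188,1), (187,0), (185,1), (184,0), (182,1), (181,0),
    (180,0), (179,0), (178,0), (176,1), (175,0), (174,0), (172,1), (170,1), (169,0), (168,0), (167,0), (165,1),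
    (163,1), (162,0), (161,0), (160,2), (155,2), (155,0), (154,2), (154,0), (153,2), (153,0), (152,0), (151,0),
    (150,0), (149,2), (152,0), (151,0), (153,0), (154,0), (152,1), (150,1), (149,0), (148,2), (156,0), (155,0),
    (154,0), (153,0), (152,0), (157,0), (160,0), (158,1), (156,1), (155,0), (154,0), (160,1), (159,0), (158,0),
    (156,1), (155,0), (153,1), (151,1), (150,0), (149,0), (148,0), (147,0), (151,0), (153,0), (159,0), (162,0),
    (160,1), (158,1), (157,0), (156,0), (155,0), (154,0), (152,1), (150,1), (149,0), (167,0), (166,0), (165,0),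
    (164,0), (168,1), (167,0), (166,0), (165,0), (163,1), (162,0), (161,0), (160,0), (159,0), (157,1), (156,0),
    (155,0), (170,0), (168,1), (167,0), (166,0), (165,0), (163,1), (162,0), (161,0), (159,1), (158,0), (162,0),
    (171,0), (170,0), (168,1), (167,0), (166,0), (165,0), (163,1), (161,1), (160,0), (159,0), (157,1), (156,0),
    (154,1), (153,0), (152,0), (150,1), (148,1), (146,1), (145,2), (144,2), (144,0), (143,2), (144,0), (143,0),
    (142,0), (141,0), (140,2), (143,1), (142,0), (145,1), (144,0), (143,0), (141,1), (140,0), (139,2), (146,0),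
    (145,0), (144,0), (142,1), (147,0), (146,0), (144,1), (143,0), (141,1), (140,0), (139,0), (138,2), (147,0),
    (148,1), (146,1), (145,0), (144,0), (143,0), (142,0), (141,0), (140,0), (139,0), (138,0), (137,0), (136,0),
    (146,0), (148,0), (151,0), (150,0), (149,0), (147,1), (145,1), (144,0), (143,0), (142,0), (151,0), (150,0),
    (152,1), (151,0), (149,1), (148,0), (147,0), (145,1), (144,0), (155,0), (154,0), (153,0), (152,0), (160,0),
    (164,0), (163,0), (161,1), (159,1), (158,0), (157,0), (156,0), (165,0), (163,1), (162,0), (161,0), (159,1),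
    (158,0), (157,0), (155,1), (154,0), (153,0), (151,1), (150,0), (149,0), (148,0), (147,0), (145,1), (143,1),
    (141,1), (140,0), (139,0), (138,0), (149,0), (157,0), (156,0), (154,1), (153,0), (152,0), (150,1), (148,1),
    (147,0), (146,0), (162,0), (166,0), (165,0), (163,1), (161,1), (160,0), (159,0), (158,0), (156,1), (155,0),
    (154,0), (152,1), (151,0), (150,0), (148,1), (147,0), (145,1), (144,0), (143,0), (141,1), (140,0), (159,0),
    (158,0), (157,0), (156,0), (155,0), (154,0), (153,0), (152,0), (160,0), (163,0), (161,1), (159,1), (158,0),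
    (157,0), (156,0), (155,0), (163,1), (162,0), (161,0), (159,1), (158,0), (157,0), (162,0), (165,0), (163,1),
    (161,1), (160,0), (159,0), (167,0), (166,0), (165,0), (164,0), (168,0), (167,0), (169,0), (170,0), (168,1),
    (166,1), (165,0), (163,1), (162,0), (161,0), (160,0), (158,1), (156,1), (154,1), (153,0), (151,1), (150,0),
    (149,0), (148,0), (174,0), (173,0), (172,0), (171,0), (170,0), (175,0), (178,0), (176,1), (174,1), (173,0),
    (172,0), (178,1), (177,0), (176,0), (174,1), (173,0), (171,1), (169,1), (168,0), (167,0), (166,0), (165,0),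
    (164,0), (163,0), (161,1), (160,0), (159,0), (169,0), (171,0), (177,0), (180,0), (178,1), (176,1), (175,0),
    (174,0), (173,0), (172,0), (170,1), (168,1), (167,0), (166,0), (165,0), (163,1), (162,0), (185,0), (184,0),
    (183,0), (182,0), (186,1), (185,0), (184,0), (183,0), (181,1), (180,0), (179,0), (178,0), (177,0), (175,1),
    (174,0), (173,0), (188,0), (186,1), (185,0), (184,0), (183,0), (181,1), (180,0), (179,0), (177,1), (176,0),
    (180,0), (189,0), (188,0), (186,1), (185,0), (184,0), (183,0), (181,1), (179,1), (178,0), (177,0), (175,1),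
    (174,0), (172,1), (171,0), (170,0), (168,1), (167,0), (165,1), (164,0), (163,0), (161,1), (160,0), (158,1),
    (157,0), (156,0), (154,1), (153,0), (151,1), (150,0), (149,0), (147,1), (146,0), (145,0), (144,0), (143,0),
    (141,1), (139,1), (137,1), (135,1), (134,2), (133,2), (133,0), (132,2), (133,0), (132,0), (131,2), (133,0),
    (132,0), (131,0), (130,0), (129,0), (128,0), (127,2), (132,1), (131,0), (130,0), (129,0), (134,0), (132,1),
    (131,0), (135,0), (136,1), (134,1), (133,0), (132,0), (130,1), (128,1), (127,0), (126,2), (137,0), (136,0),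
    (135,0), (138,0), (139,0), (137,1), (136,0), (134,1), (133,0), (132,0), (131,0), (130,0), (140,1), (139,0),
    (137,1), (136,0), (134,1), (133,0), (132,0), (142,0), (141,0), (140,0), (143,1), (142,0), (145,1), (144,0),
    (143,0), (141,1), (139,1), (138,0), (137,0), (136,0), (134,1), (133,0), (131,1), (129,1), (128,0), (127,0),
    (126,0), (125,0), (129,0), (131,0), (138,0), (137,0), (139,0), (141,0), (148,0), (149,0), (147,1), (146,0),
    (145,0), (144,0), (143,0), (142,0), (140,1), (138,1), (136,1), (135,0), (134,0), (133,0), (132,0), (130,1),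
    (128,1), (127,0), (151,0), (152,1), (150,1), (149,0), (148,0), (147,0), (146,0), (145,0), (144,0), (150,0),
    (149,0), (152,0), (151,0), (154,0), (153,0), (155,0), (154,0), (152,1), (150,1), (148,1), (147,0), (146,0),
    (156,0), (155,0), (154,0), (153,0), (157,1), (156,0), (159,1), (158,0), (157,0), (155,1), (154,0), (152,1),
    (151,0), (150,0), (148,1), (147,0), (145,1), (143,1), (142,0), (141,0), (140,0), (139,0), (138,0), (137,0),
    (135,1), (134,0), (133,0), (143,0), (142,0), (145,0), (151,0), (162,0), (161,0), (160,0), (158,1), (163,0),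
    (162,0), (160,1), (159,0), (157,1), (156,0), (155,0), (154,0), (152,1), (150,1), (149,0), (148,0), (147,0),
    (146,0), (144,1), (143,0), (141,1), (140,0), (139,0), (137,1), (136,0), (140,0), (165,0), (166,1), (164,1),
    (163,0), (162,0), (161,0), (160,0), (159,0), (158,0), (157,0), (156,0), (164,0), (166,0), (169,0), (168,0),
    (167,0), (165,1), (163,1), (162,0), (161,0), (160,0), (169,0), (168,0), (170,1), (169,0), (167,1), (166,0),
    (165,0), (163,1), (162,0), (173,0), (172,0), (171,0), (170,0), (178,0), (182,0), (181,0), (179,1), (177,1),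
    (176,0), (175,0), (174,0), (183,0), (181,1), (180,0), (179,0), (177,1), (176,0), (175,0), (173,1), (172,0),
    (171,0), (169,1), (168,0), (167,0), (166,0), (165,0), (163,1), (161,1), (159,1), (158,0), (157,0), (155,1),
    (154,0), (153,0), (152,0), (151,0), (149,1), (148,0), (147,0), (167,0), (175,0), (174,0), (172,1), (171,0),
    (170,0), (168,1), (166,1), (165,0), (164,0), (180,0), (184,0), (183,0), (181,1), (179,1), (178,0), (177,0),
    (176,0), (174,1), (173,0), (172,0), (170,1), (169,0), (168,0), (166,1), (165,0), (163,1), (162,0), (161,0),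
    (159,1), (158,0), (157,0), (155,1), (154,0), (153,0), (151,1), (150,0), (154,0), (177,0), (176,0), (175,0),
    (174,0), (173,0), (172,0), (171,0), (170,0), (178,0), (181,0), (179,1), (177,1), (176,0), (175,0), (174,0),
    (173,0), (181,1), (180,0), (179,0), (177,1), (176,0), (175,0), (180,0), (183,0), (181,1), (179,1), (178,0),
    (177,0), (185,0), (184,0), (183,0), (182,0), (186,0), (185,0), (187,0), (188,0), (186,1), (184,1), (183,0),
    (181,1), (180,0), (179,0), (178,0), (176,1), (174,1), (172,1), (171,0), (169,1), (168,0), (167,0), (166,0),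
    (192,0), (191,0), (190,0), (189,0), (188,0), (193,0), (196,0), (194,1), (192,1), (191,0), (190,0), (196,1),
    (195,0), (194,0), (192,1), (191,0), (189,1), (187,1), (186,0), (185,0), (184,0), (183,0), (182,0), (181,0),
    (179,1), (178,0), (177,0), (187,0), (189,0), (195,0), (198,0), (196,1), (194,1), (193,0), (192,0), (191,0),
    (190,0), (188,1), (186,1), (185,0), (184,0), (183,0), (181,1), (180,0), (203,0), (202,0), (201,0), (200,0),
    (204,1), (203,0), (202,0), (201,0), (199,1), (198,0), (197,0), (196,0), (195,0), (193,1), (192,0), (191,0),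
    (206,0), (204,1), (203,0), (202,0), (201,0), (199,1), (198,0), (197,0), (195,1), (194,0), (198,0), (207,0),
    (206,0), (204,1), (203,0), (202,0), (201,0), (199,1), (197,1), (196,0), (195,0), (193,1), (192,0), (190,1),
    (189,0), (188,0), (186,1), (185,0), (183,1), (182,0), (181,0), (179,1), (178,0), (176,1), (175,0), (174,0),
    (172,1), (171,0), (169,1), (168,0), (167,0), (165,1), (164,0), (163,0), (162,0), (161,0), (159,1), (158,0),
    (157,0), (155,1), (153,1), (152,0), (151,0), (149,1), (148,0), (146,1), (145,0), (144,0), (143,0), (141,1),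
    (139,1), (138,0), (137,0), (135,1), (134,0), (132,1), (131,0), (130,0), (128,1), (126,1), (124,1), (123,2),
    (122,2), (122,0), (121,2), (122,0), (121,0), (120,0), (119,0), (118,2), (121,1), (120,0), (123,1), (122,0),
    (121,0), (119,1), (118,0), (117,2), (124,0), (123,0), (122,0), (120,1), (125,0), (124,0), (122,1), (121,0),
    (119,1), (118,0), (117,0), (116,2), (125,0), (126,1), (124,1), (123,0), (122,0), (121,0), (120,0), (119,0),
    (118,0), (117,0), (116,0), (115,0), (114,0), (112,1), (111,2), (122,0), (124,0), (127,0), (126,0), (125,0),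
    (123,1), (121,1), (120,0), (119,0), (118,0), (127,0), (126,0), (128,1), (127,0), (125,1), (124,0), (123,0),
    (121,1), (120,0), (130,0), (129,0), (128,0), (131,1), (130,0), (129,0), (127,1), (126,0), (125,0), (124,0),
    (123,0), (121,1), (119,1), (117,1), (116,0), (115,0), (114,0), (112,1), (111,0), (110,2), (123,0), (132,0),
    (131,0), (130,0), (128,1), (127,0), (126,0), (124,1), (122,1), (121,0), (120,0), (133,0), (132,0), (130,1),
    (129,0), (128,0), (126,1), (125,0), (124,0), (122,1), (121,0), (119,1), (118,0), (117,0), (115,1), (114,0),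
    (112,1), (111,0), (110,0), (109,2), (112,1), (111,0), (110,0), (109,0), (108,0), (107,0), (106,0), (105,2),
    (112,0), (110,1), (109,0), (108,0), (107,0), (113,0), (112,0), (110,1), (109,0), (114,0), (113,0), (115,0),
    (131,0), (132,1), (130,1), (129,0), (128,0), (127,0), (126,0), (125,0), (124,0), (123,0), (122,0), (130,0),
    (132,0), (135,0), (134,0), (133,0), (131,1), (129,1), (128,0), (127,0), (126,0), (125,0), (135,0), (134,0),
    (136,1), (135,0), (133,1), (132,0), (131,0), (129,1), (128,0), (127,0), (132,0), (138,0), (136,1), (135,0),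
    (133,1), (131,1), (130,0), (129,0), (139,0), (138,0), (137,0), (136,0), (135,0), (134,0), (140,1), (139,0),
    (138,0), (137,0), (142,0), (140,1), (139,0), (143,0), (144,1), (142,1), (141,0), (140,0), (138,1), (136,1),
    (135,0), (133,1), (132,0), (131,0), (130,0), (128,1), (126,1), (124,1), (123,0), (121,1), (120,0), (119,0),
    (118,0), (116,1), (114,1), (112,1), (111,0), (110,0), (108,1), (106,1), (105,0), (104,2), (116,0), (115,0),
    (114,0), (113,0), (117,0), (116,0), (118,1), (117,0), (115,1), (114,0), (112,1), (111,0), (110,0), (109,0),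
    (108,0), (120,0), (118,1), (117,0), (115,1), (114,0), (112,1), (111,0), (110,0), (121,1), (120,0), (119,0),
    (118,0), (123,0), (121,1), (120,0), (124,0), (145,0), (144,0), (143,0), (146,0), (147,0), (145,1), (144,0),
    (142,1), (141,0), (140,0), (139,0), (138,0), (148,1), (147,0), (145,1), (144,0), (142,1), (141,0), (140,0),
    (150,0), (149,0), (148,0), (151,1), (150,0), (153,1), (152,0), (151,0), (149,1), (147,1), (146,0), (145,0),
    (144,0), (142,1), (141,0), (139,1), (137,1), (136,0), (135,0), (134,0), (133,0), (132,0), (131,0), (129,1),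
    (128,0), (127,0), (125,1), (123,1), (122,0), (121,0), (119,1), (117,1), (116,0), (115,0), (114,0), (112,1),
    (111,0), (109,1), (107,1), (106,0), (105,0), (104,0), (103,0), (101,1), (100,2), (105,0), (107,0), (114,0),
    (113,0), (115,0), (117,0), (125,0), (124,0), (135,0), (137,0), (144,0), (143,0), (145,0), (147,0), (154,0),
    (155,0), (153,1), (152,0), (151,0), (150,0), (149,0), (148,0), (146,1), (144,1), (142,1), (141,0), (140,0),
    (139,0), (138,0), (136,1), (134,1), (133,0), (132,0), (131,0), (129,1), (128,0), (126,1), (125,0), (123,1),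
    (122,0), (121,0), (120,0), (119,0), (118,0), (116,1), (114,1), (112,1), (111,0), (110,0), (109,0), (108,0),
    (106,1), (104,1), (103,0), (101,1), (100,0), (99,2), (101,1), (100,0), (99,0), (98,0), (97,0), (96,2),
    (101,0), (99,1), (98,0), (102,0), (124,0), (123,0), (125,0), (126,1), (124,1), (122,1), (121,0), (120,0),
    (119,0), (118,0), (117,0), (116,0), (122,0), (121,0), (124,0), (123,0), (126,0), (125,0), (128,0), (127,0),
    (126,0), (124,1), (122,1), (120,1), (119,0), (118,0), (129,1), (128,0), (127,0), (126,0), (125,0), (131,0),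
    (129,1), (128,0), (132,0), (153,0), (154,1), (152,1), (151,0), (150,0), (149,0), (148,0), (147,0), (146,0),
    (152,0), (151,0), (154,0), (153,0), (156,0), (155,0), (157,0), (156,0), (154,1), (152,1), (150,1), (149,0),
    (148,0), (158,0), (157,0), (156,0), (155,0), (159,1), (158,0), (161,1), (160,0), (159,0), (157,1), (156,0),
    (154,1), (153,0), (152,0), (150,1), (149,0), (147,1), (145,1), (144,0), (143,0), (142,0), (141,0), (140,0),
    (139,0), (137,1), (136,0), (135,0), (133,1), (131,1), (130,0), (129,0), (127,1), (126,0), (124,1), (123,0),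
    (122,0), (120,1), (119,0), (117,1), (115,1), (114,0), (113,0), (112,0), (111,0), (110,0), (109,0), (107,1),
    (106,0), (105,0), (103,1), (101,1), (100,0), (99,0), (97,1), (96,0), (95,2), (103,0), (102,0), (101,0),
    (100,0), (98,1), (113,0), (112,0), (115,0), (121,0), (133,0), (132,0), (131,0), (130,0), (128,1), (143,0),
    (142,0), (145,0), (151,0), (162,0), (161,0), (160,0), (158,1), (163,0), (162,0), (160,1), (159,0), (157,1),
    (156,0), (155,0), (154,0), (152,1), (150,1), (149,0), (148,0), (147,0), (146,0), (144,1), (143,0), (141,1),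
    (140,0), (139,0), (137,1), (136,0), (134,1), (133,0), (132,0), (130,1), (129,0), (127,1), (126,0), (125,0),
    (124,0), (122,1), (120,1), (119,0), (118,0), (117,0), (116,0), (114,1), (113,0), (111,1), (110,0), (109,0),
    (107,1), (106,0), (104,1), (103,0), (102,0), (100,1), (99,0), (97,1), (96,0), (95,0), (94,2), (89,2),
    (88,2), (87,2), (87,1), (86,2), (85,2), (85,0), (84,2), (85,1), (84,0), (83,2), (83,0), (82,2),
    (83,0), (82,0), (81,2), (86,0), (85,0), (87,0), (90,0), (88,1), (86,1), (84,1), (83,0), (82,0),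
    (81,0), (80,2), (82,0), (81,0), (80,0), (79,2), (82,0), (86,1), (85,0), (84,0), (83,0), (81,1),
    (80,0), (79,0), (78,2), (77,2), (77,0), (76,2), (76,0), (75,2), (74,2), (75,0), (74,0), (73,2),
    (76,0), (74,1), (73,0), (72,2), (71,2), (70,2), (69,2), (74,0), (73,0), (72,0), (71,0), (70,0),
    (75,0), (74,0), (78,0), (76,1), (75,0), (73,1), (72,0), (71,0), (69,1), (68,2), (67,2), (74,1),
    (73,0), (72,0), (71,0), (69,1), (68,0), (67,0), (66,2), (66,0), (65,2), (65,0), (64,2), (64,0),
    (63,2), (64,0), (63,0), (62,2), (63,0), (62,0), (61,2), (64,0), (62,1), (61,0), (60,2), (59,2),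
    (58,2), (57,2), (57,1), (56,2), (55,2), (55,0), (54,2), (55,1), (54,0), (53,2), (53,0), (52,2),
    (53,0), (52,0), (51,2), (56,0), (55,0), (57,0), (60,0), (58,1), (56,1), (54,1), (53,0), (52,0),
    (51,0), (50,2), (52,0), (51,0), (50,0), (49,2), (52,0), (56,1), (55,0), (54,0), (53,0), (51,1),
    (50,0), (49,0), (48,2), (47,2), (47,0), (46,2), (46,0), (45,2), (44,2), (45,0), (44,0), (43,2),
    (46,0), (44,1), (43,0), (42,2), (41,2), (40,2), (39,2), (44,0), (43,0), (42,0), (41,0), (40,0),
    (45,0), (44,0), (48,0), (46,1), (45,0), (43,1), (42,0), (41,0), (39,1), (38,2), (37,2), (44,1),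
    (43,0), (42,0), (41,0), (39,1), (38,0), (37,0), (36,2), (36,0), (35,2), (35,0), (34,2), (34,0),
    (33,2), (34,0), (33,0), (32,2), (33,0), (32,0), (31,2), (34,0), (32,1), (31,0), (30,2), (29,2),
    (28,2), (27,2), (27,1), (26,2), (25,2), (25,0), (24,2), (25,1), (24,0), (23,2), (23,0), (22,2),
    (23,0), (22,0), (21,2), (25,0), (26,1), (24,1), (23,0), (22,0), (21,0), (20,2), (22,0), (21,0),
    (20,0), (19,2), (22,0), (25,0), (24,0), (23,0), (21,1), (20,0), (19,0), (18,2), (17,2), (17,0),
    (16,2), (16,0), (15,2), (14,2), (15,0), (14,0), (13,2), (14,1), (13,0), (12,2), (11,2), (10,2),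
    (9,2), (10,0), (9,0), (8,2), (9,0), (8,0), (7,2), (8,0), (7,0), (6,2), (6,0), (5,2),
    (6,0), (5,0), (4,2), (5,1), (4,0), (3,2), (2,2), (1,2), (0,2)]

/-- reduction moves -/
def movesBC : List (Nat × Nat) := [(72,2), (81,1), (80,0), (79,0), (78,0), (77,0), (76,0), (75,0), (74,0), (73,0), (72,0), (71,2),
    (58,1), (57,0), (56,0), (55,0), (60,0), (58,1), (57,0), (62,0), (61,0), (63,0), (70,0), (68,1),
    (67,0), (66,0), (65,0), (64,0), (62,1), (60,1), (59,0), (58,0), (56,1), (54,1), (53,0), (52,0),
    (51,0), (64,0), (63,0), (62,0), (61,0), (59,1), (71,0), (70,0), (68,1), (67,0), (65,1), (64,0),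
    (63,0), (61,1), (60,0), (58,1), (57,0), (56,0), (54,1), (53,0), (57,0), (64,0), (72,0), (71,0),
    (70,0), (68,1), (67,0), (65,1), (63,1), (62,0), (61,0), (60,0), (58,1), (56,1), (55,0), (68,0),
    (67,0), (69,0), (73,0), (72,0), (70,1), (68,1), (66,1), (65,0), (64,0), (63,0), (62,0), (61,0),
    (60,0), (59,0), (66,0), (68,0), (74,0), (72,1), (71,0), (70,0), (69,0), (67,1), (65,1), (64,0),
    (63,0), (62,0), (71,0), (70,0), (75,0), (74,0), (72,1), (71,0), (69,1), (68,0), (67,0), (65,1),
    (64,0), (76,0), (75,0), (74,0), (73,0), (72,0), (77,0), (76,0), (78,0), (79,1), (77,1), (75,1),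
    (74,0), (73,0), (71,1), (70,0), (69,0), (68,0), (67,0), (65,1), (63,1), (61,1), (60,0), (58,1),
    (57,0), (56,0), (54,1), (52,1), (50,1), (49,2), (46,2), (46,0), (45,2), (46,0), (45,0), (44,2),
    (46,0), (45,0), (44,0), (43,2), (46,0), (47,1), (45,1), (44,0), (43,0), (42,2), (48,0), (49,0),
    (47,1), (46,0), (45,0), (43,1), (42,0), (41,2), (44,0), (49,0), (48,0), (47,0), (45,1), (43,1),
    (42,0), (41,0), (40,2), (49,0), (48,0), (47,0), (46,0), (45,0), (50,1), (49,0), (48,0), (47,0),
    (52,0), (50,1), (49,0), (53,0), (54,1), (52,1), (51,0), (50,0), (48,1), (46,1), (44,1), (43,0),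
    (42,0), (41,0), (40,0), (39,2), (42,0), (44,0), (55,0), (54,0), (53,0), (52,0), (51,0), (49,1),
    (56,0), (57,0), (55,1), (54,0), (53,0), (51,1), (50,0), (48,1), (47,0), (46,0), (45,0), (43,1),
    (41,1), (40,0), (39,0), (38,2), (45,0), (44,0), (52,0), (57,0), (56,0), (55,0), (53,1), (51,1),
    (50,0), (49,0), (48,0), (46,1), (45,0), (43,1), (42,0), (41,0), (39,1), (38,0), (37,2), (36,1),
    (35,2), (34,2), (34,0), (33,2), (33,0), (32,2), (35,0), (34,0), (33,0), (32,0), (31,2), (31,0),
    (30,2), (30,0), (29,2), (30,0), (29,0), (28,2), (31,1), (30,0), (29,0), (28,0), (27,2), (31,0),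
    (29,1), (28,0), (27,0), (26,2), (31,0), (30,0), (29,0), (27,1), (26,0), (25,2), (35,0), (34,0),
    (33,0), (32,0), (31,0), (30,0), (29,0), (28,0), (27,0), (25,1), (24,2), (23,2), (22,2), (21,2),
    (20,2), (19,2), (18,2), (17,2), (16,2), (15,2), (14,2), (13,2), (12,2), (11,2), (10,2), (9,2),
    (8,2), (7,2), (6,2), (5,2), (4,2), (3,2), (2,2), (0,2)]

/-- reduction moves -/
def movesEF : List (Nat × Nat) := [(72,2), (71,2), (69,1), (68,0), (67,0), (66,0), (71,0), (69,1), (68,0), (73,0), (72,0), (74,0),
    (76,0), (75,0), (73,1), (71,1), (70,0), (69,0), (67,1), (65,1), (64,0), (62,1), (61,0), (60,0),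
    (59,0), (58,0), (57,0), (75,0), (74,0), (73,0), (72,0), (70,1), (76,1), (75,0), (74,0), (72,1),
    (71,0), (69,1), (68,0), (67,0), (65,1), (64,0), (62,1), (61,0), (60,0), (59,0), (68,0), (75,0),
    (78,0), (76,1), (74,1), (73,0), (72,0), (71,0), (69,1), (67,1), (66,0), (65,0), (64,0), (62,1),
    (61,0), (79,0), (78,0), (80,0), (83,0), (81,1), (79,1), (77,1), (76,0), (75,0), (74,0), (73,0),
    (72,0), (71,0), (70,0), (77,0), (79,0), (83,1), (82,0), (81,0), (80,0), (78,1), (76,1), (75,0),
    (74,0), (73,0), (82,0), (81,0), (85,0), (83,1), (82,0), (80,1), (79,0), (78,0), (76,1), (75,0),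
    (86,0), (85,0), (84,0), (83,0), (87,0), (88,1), (86,1), (85,0), (84,0), (82,1), (81,0), (80,0),
    (79,0), (78,0), (76,1), (74,1), (72,1), (71,0), (69,1), (68,0), (67,0), (66,0), (65,0), (64,0),
    (62,1), (60,1), (58,1), (56,1), (55,2), (46,2), (45,2), (44,2), (43,2), (42,2), (41,2), (40,2),
    (39,2), (38,2), (38,0), (37,2), (38,0), (37,0), (36,2), (38,0), (37,0), (36,0), (35,2), (37,1),
    (36,0), (35,0), (34,2), (37,0), (35,1), (34,0), (33,2), (36,0), (35,0), (33,1), (32,2), (35,0),
    (36,1), (34,1), (33,0), (32,0), (31,2), (37,0), (38,0), (36,1), (35,0), (34,0), (32,1), (31,0),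
    (30,2), (33,0), (38,0), (37,0), (36,0), (34,1), (32,1), (31,0), (30,0), (29,2), (38,0), (37,0),
    (36,0), (35,0), (34,0), (39,1), (38,0), (37,0), (36,0), (41,0), (39,1), (38,0), (42,0), (43,1),
    (41,1), (40,0), (39,0), (37,1), (35,1), (33,1), (32,0), (31,0), (30,0), (29,0), (28,2), (31,0),
    (33,0), (44,0), (43,0), (42,0), (41,0), (40,0), (38,1), (45,0), (46,0), (44,1), (43,0), (42,0),
    (40,1), (39,0), (37,1), (36,0), (35,0), (34,0), (32,1), (30,1), (29,0), (28,0), (27,2), (34,0),
    (33,0), (41,0), (46,0), (45,0), (44,0), (42,1), (40,1), (39,0), (38,0), (37,0), (35,1), (34,0),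
    (32,1), (31,0), (30,0), (28,1), (27,0), (26,2), (25,1), (24,2), (23,2), (23,0), (22,2), (22,0),
    (21,2), (24,0), (23,0), (22,0), (21,0), (20,2), (20,0), (19,2), (19,0), (18,2), (19,0), (18,0),
    (17,2), (16,2), (15,2), (14,2), (13,2), (12,2), (11,2), (10,2), (10,0), (9,2), (14,0), (13,0),
    (12,0), (11,0), (10,0), (9,0), (8,2), (7,2), (6,2), (5,2), (4,2), (3,2), (2,2), (0,2)]

end CfsgLib.KnownB.Fi23Mult
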