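import Cfsg.Agent.Lib.KnownB.Fi23Mult.Data
import Cfsg.Agent.Lib.KnownB.Fi22Mult.Moves

/-!
The long reduction of the spider relator, split at intermediate words to keep each kernel check small.
-/

set_option autoImplicit false
set_option maxRecDepth 100000
set_option Elab.async false

namespace CfsgLib.KnownB.Fi23Mult

open CfsgLib.KnownB.Fi22Mult (runMoves moveAt)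

/-- a segment of the long reduction -/
def seg (k : ℕ) : List (ℕ × ℕ) := (movesP.drop (k * 461)).take 461

/-- a segment takes one intermediate word to the next -/
def segOk (k : ℕ) (w w' : List ℕ) (d : ℕ) : Bool :=
  match runMoves (seg k) w with
  | some (v, e) => v == w' && Nat.beq e d
  | none => false

/-- intermediate word 0 -/
def stageW0 : List ℕ :=
  [3, 2, 1, 3, 4, 5, 3, 7, 8, 3, 2, 1, 3, 4, 5, 3, 7, 8, 3, 2, 1, 3, 4, 5, 3, 7, 8, 3, 2, 1,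
    3, 4, 5, 3, 7, 8, 3, 2, 1, 3, 4, 5, 3, 7, 8, 3, 2, 1, 3, 4, 5, 3, 7, 8, 3, 2, 1, 3, 4, 5,
    3, 7, 8, 3, 2, 1, 3, 4, 5, 3, 7, 8, 3, 2, 1, 3, 4, 5, 3, 7, 8, 3, 2, 1, 3, 4, 5, 3, 7, 8,
    8, 7, 3, 4, 2, 3, 7, 5, 4, 3, 2, 1, 2, 3, 4, 5, 7, 3, 2, 4, 3, 7, 8, 7, 3, 4, 2, 3, 7, 5,
    4, 3, 2, 1, 2, 3, 4, 5, 7, 3, 2, 4, 3, 7, 8, 7, 3, 4, 2, 3, 7, 5, 4, 3, 2, 1, 2, 3, 4, 5,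
    7, 3, 2, 4, 3, 7, 7, 8, 3, 4, 2, 3, 7, 5, 4, 3, 2, 1, 2, 3, 4, 5, 7, 3, 2, 4, 3, 8, 7, 7,
    7, 8, 3, 4, 2, 3, 7, 5, 4, 3, 2, 1, 2, 3, 4, 5, 7, 3, 2, 4, 3, 8, 7, 7, 7, 8, 3, 4, 2, 3,
    7, 5, 4, 3, 2, 1, 2, 3, 4, 5, 7, 3, 2, 4, 3, 8, 7, 7, 5, 4, 3, 7, 8, 2, 3, 7, 4, 3, 2, 1,
    2, 3, 4, 7, 3, 2, 8, 7, 3, 4, 5, 5, 5, 4, 3, 7, 8, 2, 3, 7, 4, 3, 2, 1, 2, 3, 4, 7, 3, 2,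
    8, 7, 3, 4, 5, 5, 5, 4, 3, 7, 8, 2, 3, 7, 4, 3, 2, 1, 2, 3, 4, 7, 3, 2, 8, 7, 3, 4, 5, 5,
    5, 5, 4, 3, 7, 8, 2, 3, 7, 4, 3, 2, 1, 2, 3, 4, 7, 3, 2, 8, 7, 3, 4, 5, 4, 3, 7, 8, 2, 3,
    7, 5, 4, 3, 2, 1, 2, 3, 4, 5, 7, 3, 2, 8, 7, 3, 4, 4, 2, 2, 3, 7, 8, 4, 3, 7, 5, 4, 3, 2,
    1, 2, 3, 4, 5, 7, 3, 4, 8, 7, 3, 2, 1, 2, 3, 7, 8, 4, 3, 7, 5, 4, 3, 2, 3, 4, 5, 7, 3, 4,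
    8, 7, 3, 2, 1, 1]

/-- intermediate word 1 -/
def stageW1 : List ℕ :=
  [3, 2, 1, 3, 4, 5, 3, 7, 8, 3, 2, 1, 3, 4, 5, 3, 7, 8, 3, 2, 1, 3, 4, 5, 3, 7, 8, 3, 2, 1,
    3, 4, 5, 3, 7, 8, 3, 2, 1, 3, 4, 5, 3, 7, 8, 3, 2, 1, 3, 4, 5, 3, 7, 8, 3, 2, 1, 3, 4, 5,
    3, 7, 8, 3, 2, 1, 3, 4, 5, 3, 7, 8, 3, 2, 1, 3, 4, 5, 3, 7, 8, 3, 2, 1, 3, 4, 5, 3, 7, 8,
    8, 7, 3, 4, 2, 3, 7, 5, 4, 3, 2, 1, 2, 3, 4, 5, 7, 3, 2, 4, 3, 7, 8, 7, 3, 4, 2, 3, 7, 5,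
    4, 3, 2, 1, 2, 3, 4, 5, 7, 3, 2, 4, 3, 7, 8, 7, 3, 4, 2, 3, 7, 5, 4, 3, 2, 1, 2, 3, 4, 5,
    7, 3, 2, 4, 3, 7, 7, 8, 3, 4, 2, 3, 7, 5, 4, 3, 2, 1, 2, 3, 4, 5, 7, 3, 2, 4, 3, 8, 7, 7,
    7, 8, 3, 4, 2, 3, 7, 5, 4, 3, 2, 1, 2, 3, 4, 5, 7, 3, 2, 4, 3, 8, 7, 7, 7, 8, 3, 4, 2, 3,
    7, 5, 4, 3, 2, 1, 2, 3, 4, 5, 7, 3, 2, 4, 3, 8, 7, 7, 5, 4, 3, 7, 8, 2, 3, 7, 4, 3, 2, 1,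
    2, 3, 4, 7, 3, 2, 8, 7, 3, 4, 5, 5, 5, 4, 3, 7, 8, 2, 3, 7, 4, 3, 2, 1, 2, 3, 4, 7, 3, 2,
    8, 7, 3, 4, 5, 5, 5, 4, 3, 7, 8, 2, 3, 7, 4, 3, 2, 1, 2, 1, 3, 2, 4, 7, 3, 7, 2, 1, 4, 3,
    2, 1, 5, 4, 3, 2, 7, 3, 4, 5, 8, 7, 3, 4, 2, 3, 7, 8, 1, 2, 3, 7, 4, 3, 2, 1, 5, 4, 3, 2,
    7, 3, 4, 5, 8, 7, 3, 2]

/-- intermediate word 2 -/
def stageW2 : List ℕ :=
  [3, 2, 1, 3, 4, 5, 3, 7, 8, 3, 2, 1, 3, 4, 5, 3, 7, 8, 3, 2, 1, 3, 4, 5, 3, 7, 8, 3, 2, 1,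
    3, 4, 5, 3, 7, 8, 3, 2, 1, 3, 4, 5, 3, 7, 8, 3, 2, 1, 3, 4, 5, 3, 7, 8, 3, 2, 1, 3, 4, 5,
    3, 7, 8, 3, 2, 1, 3, 4, 5, 3, 7, 8, 3, 2, 1, 3, 4, 5, 3, 7, 8, 3, 2, 1, 3, 4, 5, 3, 7, 8,
    8, 7, 3, 4, 2, 3, 7, 5, 4, 3, 2, 1, 2, 3, 4, 5, 7, 3, 2, 4, 3, 7, 8, 7, 3, 4, 2, 3, 7, 5,
    4, 3, 2, 1, 2, 3, 4, 5, 7, 3, 2, 4, 3, 7, 8, 7, 3, 4, 2, 3, 7, 5, 4, 3, 2, 1, 2, 3, 4, 5,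
    7, 3, 2, 4, 3, 7, 7, 8, 3, 4, 2, 3, 7, 5, 4, 3, 2, 1, 2, 3, 4, 5, 7, 3, 2, 4, 3, 8, 7, 7,
    7, 8, 3, 4, 2, 3, 7, 5, 4, 3, 2, 1, 2, 3, 4, 5, 7, 3, 2, 4, 3, 8, 7, 7, 7, 8, 3, 4, 2, 3,
    7, 5, 4, 3, 2, 1, 2, 3, 4, 5, 7, 3, 2, 4, 3, 8, 7, 7, 5, 4, 3, 7, 8, 2, 3, 7, 4, 1, 2, 3,
    4, 7, 3, 2, 1, 5, 4, 3, 7, 3, 2, 3, 4, 8, 7, 3, 2, 5, 4, 3, 7, 8, 1, 2, 3, 4, 7, 3, 2, 5,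
    4, 3, 1, 2, 3, 7, 4, 3, 5, 4, 8, 7, 3, 2]

/-- intermediate word 3 -/
def stageW3 : List ℕ :=
  [3, 2, 1, 3, 4, 5, 3, 7, 8, 3, 2, 1, 3, 4, 5, 3, 7, 8, 3, 2, 1, 3, 4, 5, 3, 7, 8, 3, 2, 1,
    3, 4, 5, 3, 7, 8, 3, 2, 1, 3, 4, 5, 3, 7, 8, 3, 2, 1, 3, 4, 5, 3, 7, 8, 3, 2, 1, 3, 4, 5,
    3, 7, 8, 3, 2, 1, 3, 4, 5, 3, 7, 8, 3, 2, 1, 3, 4, 5, 3, 7, 8, 3, 2, 1, 3, 4, 5, 3, 7, 8,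
    8, 7, 3, 4, 2, 3, 7, 5, 4, 3, 2, 1, 2, 3, 4, 5, 7, 3, 2, 4, 3, 7, 8, 7, 3, 4, 2, 3, 7, 5,
    4, 3, 2, 1, 2, 3, 4, 5, 7, 3, 2, 4, 3, 7, 8, 7, 3, 4, 2, 3, 7, 5, 4, 3, 2, 1, 2, 3, 4, 5,
    7, 3, 2, 4, 3, 7, 7, 8, 3, 4, 2, 3, 7, 5, 4, 3, 2, 1, 2, 3, 4, 5, 7, 3, 2, 4, 3, 8, 7, 7,
    7, 8, 3, 4, 2, 3, 5, 4, 3, 7, 2, 3, 4, 1, 2, 3, 4, 7, 3, 2, 1, 5, 4, 3, 8, 7, 3, 4, 2, 3,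
    4, 2, 7, 5, 4, 3, 2, 1, 2, 3, 4, 7, 3, 2, 8, 7, 3, 2, 4, 3, 7, 8, 1, 2, 3, 5, 4, 3, 2, 7,
    8, 1, 2, 3, 7, 4, 3, 2, 1, 5, 4, 3, 2, 7, 3, 4, 8, 7, 3, 2]

/-- intermediate word 4 -/
def stageW4 : List ℕ :=
  [3, 2, 1, 3, 4, 5, 3, 7, 8, 3, 2, 1, 3, 4, 5, 3, 7, 8, 3, 2, 1, 3, 4, 5, 3, 7, 8, 3, 2, 1,
    3, 4, 5, 3, 7, 8, 3, 2, 1, 3, 4, 5, 3, 7, 8, 3, 2, 1, 3, 4, 5, 3, 7, 8, 3, 2, 1, 3, 4, 5,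
    3, 7, 8, 3, 2, 1, 3, 4, 5, 3, 7, 8, 3, 2, 1, 3, 4, 5, 3, 7, 8, 3, 2, 1, 3, 4, 5, 3, 7, 8,
    8, 7, 3, 4, 2, 3, 7, 5, 4, 3, 2, 1, 2, 3, 4, 5, 7, 3, 2, 4, 3, 7, 8, 7, 3, 4, 2, 3, 7, 5,
    4, 3, 2, 1, 2, 3, 4, 5, 7, 3, 2, 4, 3, 7, 8, 7, 3, 4, 2, 3, 7, 5, 4, 3, 2, 1, 2, 3, 4, 5,
    7, 3, 2, 4, 3, 7, 7, 8, 3, 4, 2, 3, 5, 4, 3, 7, 2, 3, 4, 1, 2, 3, 4, 7, 3, 2, 1, 5, 4, 3,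
    8, 7, 3, 4, 2, 3, 4, 7, 5, 4, 3, 2, 1, 2, 3, 4, 7, 3, 2, 8, 7, 3, 2, 4, 3, 7, 8, 1, 2, 3,
    5, 4, 3, 7, 3, 2, 3, 4, 1, 2, 3, 8, 7, 3, 2, 4, 3, 5, 4, 3, 2, 8, 7, 3, 4, 5, 8, 7, 1, 2,
    1, 3, 2, 7, 3, 4, 8, 7, 3, 2]

/-- intermediate word 5 -/
def stageW5 : List ℕ :=
  [3, 2, 1, 3, 4, 5, 3, 7, 8, 3, 2, 1, 3, 4, 5, 3, 7, 8, 3, 2, 1, 3, 4, 5, 3, 7, 8, 3, 2, 1,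
    3, 4, 5, 3, 7, 8, 3, 2, 1, 3, 4, 5, 3, 7, 8, 3, 2, 1, 3, 4, 5, 3, 7, 8, 3, 2, 1, 3, 4, 5,
    3, 7, 8, 3, 2, 1, 3, 4, 5, 3, 7, 8, 3, 2, 1, 3, 4, 5, 3, 7, 8, 3, 2, 1, 3, 4, 5, 3, 7, 8,
    8, 7, 3, 4, 2, 3, 7, 5, 4, 3, 2, 1, 2, 3, 4, 5, 7, 3, 2, 4, 3, 7, 8, 7, 3, 4, 2, 3, 7, 5,
    4, 3, 2, 1, 2, 3, 4, 5, 7, 3, 2, 4, 3, 7, 8, 7, 8, 3, 7, 4, 3, 5, 4, 3, 7, 2, 3, 4, 5, 1,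
    2, 3, 4, 5, 7, 3, 4, 2, 3, 1, 2, 8, 7, 3, 8, 2, 1, 4, 3, 2, 7, 8, 3, 7, 5, 4, 3, 7, 2, 3,
    4, 7, 8, 1, 2, 3, 5, 4, 3, 2, 1, 7, 3, 2, 1, 4, 3, 7, 8, 7, 3, 4, 2, 3, 7, 5, 4, 3, 2, 7,
    3, 4, 5, 8, 7, 3, 1, 2, 3, 7, 8, 4, 3, 2]

/-- intermediate word 6 -/
def stageW6 : List ℕ :=
  [3, 2, 1, 3, 4, 5, 3, 7, 8, 3, 2, 1, 3, 4, 5, 3, 7, 8, 3, 2, 1, 3, 4, 5, 3, 7, 8, 3, 2, 1,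
    3, 4, 5, 3, 7, 8, 3, 2, 1, 3, 4, 5, 3, 7, 8, 3, 2, 1, 3, 4, 5, 3, 7, 8, 3, 2, 1, 3, 4, 5,
    3, 7, 8, 3, 2, 1, 3, 4, 5, 3, 7, 8, 3, 2, 1, 3, 4, 5, 3, 7, 8, 3, 2, 1, 3, 4, 5, 3, 7, 8,
    8, 7, 3, 4, 2, 3, 7, 5, 4, 3, 2, 1, 2, 3, 4, 5, 7, 3, 2, 4, 3, 7, 8, 7, 3, 4, 2, 3, 7, 5,
    4, 3, 2, 1, 2, 1, 3, 2, 7, 3, 2, 4, 3, 7, 1, 2, 3, 8, 7, 3, 2, 4, 3, 7, 1, 2, 3, 4, 8, 7,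
    3, 5, 4, 3, 7, 2, 3, 4, 5, 1, 2, 3, 4, 7, 3, 2, 1, 8, 7, 3, 2, 1, 4, 3, 2, 7, 3, 4, 8, 7,
    5, 4, 3, 4, 7, 8, 2, 3, 4, 7, 3, 5, 4, 1, 2, 3, 7, 4, 3, 2, 5, 8, 7, 3, 1, 2, 3, 7, 8, 4,
    3, 2]

/-- intermediate word 7 -/
def stageW7 : List ℕ :=
  [3, 2, 1, 3, 4, 5, 3, 7, 8, 3, 2, 1, 3, 4, 5, 3, 7, 8, 3, 2, 1, 3, 4, 5, 3, 7, 8, 3, 2, 1,
    3, 4, 5, 3, 7, 8, 3, 2, 1, 3, 4, 5, 3, 7, 8, 3, 2, 1, 3, 4, 5, 3, 7, 8, 3, 2, 1, 3, 4, 5,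
    3, 7, 8, 3, 2, 1, 3, 4, 5, 3, 7, 8, 3, 2, 1, 3, 4, 5, 3, 7, 8, 3, 2, 1, 3, 4, 5, 3, 7, 8,
    8, 7, 3, 4, 2, 3, 7, 7, 5, 4, 1, 2, 3, 7, 2, 4, 3, 1, 2, 8, 7, 3, 4, 2, 3, 1, 2, 7, 3, 5,
    4, 3, 2, 1, 7, 3, 2, 8, 7, 3, 2, 1, 4, 3, 7, 2, 3, 8, 7, 5, 4, 3, 2, 7, 3, 8, 7, 4, 3, 1,
    2, 3, 7, 8, 4, 3, 5, 4, 3, 7, 8, 2, 3, 4, 7, 3, 2, 5, 4, 3, 1, 2, 3, 4, 7, 3, 2, 1, 5, 8,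
    7, 3, 2, 4, 3, 2]

/-- intermediate word 8 -/
def stageW8 : List ℕ :=
  []

theorem seg0_ok : segOk 0 stageW0 stageW1 29 = true := by decide +kernel

theorem seg1_ok : segOk 1 stageW1 stageW2 27 = true := by decide +kernel

theorem seg2_ok : segOk 2 stageW2 stageW3 12 = true := by decide +kernel

theorem seg3_ok : segOk 3 stageW3 stageW4 5 = true := by decide +kernel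

theorem seg4_ok : segOk 4 stageW4 stageW5 13 = true := by decide +kernel

theorem seg5_ok : segOk 5 stageW5 stageW6 6 = true := by decide +kernel

theorem seg6_ok : segOk 6 stageW6 stageW7 13 = true := by decide +kernel

theorem seg7_ok : segOk 7 stageW7 stageW8 93 = true := by decide +kernel

theorem run_append : ∀ {a b : List (ℕ × ℕ)} {w w' u : List ℕ} {d e : ℕ},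
    runMoves a w = some (w', d) → runMoves b w' = some (u, e) → runMoves (a ++ b) w = some (u, d + e)
  | [], b, w, w', u, d, e, h, h' => by
    simp only [runMoves, Option.some.injEq, Prod.mk.injEq] at h
    obtain ⟨rfl, rfl⟩ := h
    simpa using h'
  | (p, k) :: a, b, w, w', u, d, e, h, h' => by
    rw [runMoves] at h
    rw [List.cons_append, runMoves]
    cases hm : moveAt k p w with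
    | none => simp [hm] at h
    | some q =>
      obtain ⟨v, d₁⟩ := q
      simp only [hm] at h ⊢
      cases hr : runMoves a v with
      | none => simp [hr] at h
      | some q' =>
        obtain ⟨v', d₂⟩ := q'
        simp only [hr, Option.some.injEq, Prod.mk.injEq] at h
        obtain ⟨rfl, rfl⟩ := h
        simp only [run_append hr h', Nat.add_assoc]

theorem segOk_iff {k : ℕ} {w w' : List ℕ} {d : ℕ} (h : segOk k w w' d = true) :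
    runMoves (seg k) w = some (w', d) := by
  unfold segOk at h
  cases hr : runMoves (seg k) w with
  | none => simp [hr] at h
  | some q =>
    obtain ⟨v, e⟩ := q
    simp only [hr, Bool.and_eq_true, beq_iff_eq, Nat.beq_eq] at h
    rw [h.1, h.2]

theorem seg_cover : movesP = seg 0 ++ seg 1 ++ seg 2 ++ seg 3 ++ seg 4 ++ seg 5 ++ seg 6 ++ seg 7 := by decide +kernel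

theorem movesP_run : runMoves movesP stageW0 = some ([], 198) := by
  rw [seg_cover]
  exact run_append (run_append (run_append (run_append (run_append (run_append (run_append (segOk_iff seg0_ok) (segOk_iff seg1_ok)) (segOk_iff seg2_ok)) (segOk_iff seg3_ok)) (segOk_iff seg4_ok)) (segOk_iff seg5_ok)) (segOk_iff seg6_ok)) (segOk_iff seg7_ok)

end CfsgLib.KnownB.Fi23Mult
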