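import Cfsg.Agent.Lib.KnownB.Fi23Mult.Pres
import Cfsg.Agent.Lib.KnownB.Fi22Mult.Lifts

/-! Normalised lifts of the generators of `Fi₂₃` to a central extension. -/

set_option autoImplicit false
set_option maxRecDepth 100000

namespace CfsgLib.KnownB.Fi23Mult

open Cfsg.Spor
open CfsgLib.KnownB.Fi22Mult (val edgeB val_cons val_append repW val_repW Braided eq_of_chain)

variable {Γ : Type*} [Group Γ]

/-- the node before a given one -/
def parN (j : ℕ) : ℕ := [0, 0, 1, 2, 3, 4, 5, 3, 7, 6].getD j 0

theorem edge_par : ∀ i < 10, ∀ j < 10, edgeX i j = true →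
    (0 < j ∧ parN j = i) ∨ (0 < i ∧ parN i = j) := by decide

theorem par_lt : ∀ j < 10, 0 < j → parN j < j ∧ edgeX (parN j) j = true := by decide

theorem exists_braided (σ : Γ →* Fi23) (hs : Function.Surjective σ) (hc : σ.ker ≤ Subgroup.center Γ) :
    ∃ x : ℕ → Γ, (∀ i, σ (x i) = gen i) ∧
      ∀ i j, i < 10 → j < 10 → edgeX i j = true → x i * x j * x i = x j * x i * x j := by
  have key : ∀ n ≤ 10, ∃ x : ℕ → Γ, (∀ i, σ (x i) = gen i) ∧
      ∀ j, 0 < j → j < n → x (parN j) * x j * x (parN j) = x j * x (parN j) * x j := by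
    intro n
    induction n with
    | zero =>
      intro _
      exact ⟨fun i => Function.surjInv hs (gen i), fun i => Function.surjInv_eq hs _,
        fun j _ h => absurd h (by omega)⟩
    | succ n ih =>
      intro hn
      obtain ⟨x, hx, hb⟩ := ih (by omega)
      by_cases h0 : n = 0
      · exact ⟨x, hx, fun j hj hj' => absurd hj' (by omega)⟩
      obtain ⟨hlt, hedge⟩ := par_lt n (by omega) (Nat.pos_of_ne_zero h0)
      let a := x (parN n)
      let b := x n
      obtain ⟨z, hz, hzdef⟩ : ∃ z, z ∈ σ.ker ∧ a * b * a = b * a * b * z := by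
        refine ⟨(b * a * b)⁻¹ * (a * b * a), ?_, (mul_inv_cancel_left _ _).symm⟩
        rw [MonoidHom.mem_ker]
        simp only [a, b, map_mul, map_inv, hx]
        rw [gen_braid (by omega) (by omega) hedge, inv_mul_cancel]
      have hzc : ∀ g, g * z = z * g := Subgroup.mem_center_iff.1 (hc hz)
      refine ⟨Function.update x n (b * z), fun i => ?_, fun j hj hj' => ?_⟩
      · by_cases hi : i = n
        · subst hi
          rw [Function.update_self, map_mul, MonoidHom.mem_ker.1 hz, mul_one]
          exact hx i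
        · rw [Function.update_of_ne hi, hx]
      · rcases Nat.lt_succ_iff_lt_or_eq.1 hj' with h | h
        · have hp := (par_lt j (by omega) hj).1
          rw [Function.update_of_ne (by omega), Function.update_of_ne (by omega)]
          exact hb j hj h
        · subst h
          rw [Function.update_self, Function.update_of_ne (by omega)]
          show a * (b * z) * a = b * z * a * (b * z)
          calc a * (b * z) * a = a * b * a * z := by rw [← mul_assoc, mul_assoc _ z, ← hzc, ← mul_assoc]
            _ = b * a * b * z * z := by rw [hzdef]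
            _ = b * z * a * (b * z) := by
              rw [mul_assoc b z, ← hzc a, ← mul_assoc b a, ← mul_assoc, mul_assoc (b * a) z b, ← hzc b,
                ← mul_assoc (b * a)]
  obtain ⟨x, hx, hb⟩ := key 10 le_rfl
  refine ⟨x, hx, fun i j hi hj h => ?_⟩
  rcases edge_par i hi j hj h with ⟨h0, rfl⟩ | ⟨h0, rfl⟩
  · exact hb j h0 hj
  · exact (hb i h0 hi).symm

/-- one round of deriving commuting pairs -/
def satStep (S : List (ℕ × ℕ)) : List (ℕ × ℕ) :=
  S ++ ((List.range 10).flatMap fun i => (List.range 10).filterMap fun k =>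
    if !edgeX i k && !Nat.beq i k && ((List.range 10).any fun j => !edgeX i j && !Nat.beq i j && edgeX j k &&
      S.any fun p => (Nat.beq p.1 i && Nat.beq p.2 j) || (Nat.beq p.1 j && Nat.beq p.2 i))
    then some (i, k) else none)

/-- the pairs after some rounds -/
def satN : ℕ → List (ℕ × ℕ)
  | 0 => [(9, 0)]
  | n + 1 => satStep (satN n)

theorem sat_all : ((List.range 10).all fun i => (List.range 10).all fun k => edgeX i k || Nat.beq i k ||
    (satN 12).any fun p => (Nat.beq p.1 i && Nat.beq p.2 k) || (Nat.beq p.1 k && Nat.beq p.2 i)) = true := by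
  decide +kernel

theorem val_map {H : Type*} [Group H] (σ : Γ →* H) {x : ℕ → Γ} {f : ℕ → H} (h : ∀ i, σ (x i) = f i)
    (w : List ℕ) : σ (val x w) = val f w := by
  rw [val, val, map_list_prod, List.map_map]
  congr 2
  funext j
  exact h j

theorem comm_lift (σ : Γ →* Fi23) (hc : σ.ker ≤ Subgroup.center Γ) {x : ℕ → Γ}
    (hx : ∀ i, σ (x i) = gen i)
    (hb : ∀ i j, i < 10 → j < 10 → edgeX i j = true → x i * x j * x i = x j * x i * x j) :
    ∀ i j, i < 10 → j < 10 → edgeX i j = false → i ≠ j → x i * x j = x j * x i := by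
  have hcen : ∀ {g : Γ}, σ g = 1 → ∀ h, h * g = g * h := fun hg => Subgroup.mem_center_iff.1
    (hc (MonoidHom.mem_ker.2 hg))
  have hsqc : ∀ i g, g * (x i * x i) = x i * x i * g := fun i =>
    hcen (by rw [map_mul, hx, gen_sq])
  have hu : ∀ i j, i < 10 → j < 10 → edgeX i j = false →
      ∃ u, (∀ g, g * u = u * g) ∧ x i * x j = u * (x j * x i) := fun i j hi hj h =>
    ⟨x i * x j * (x j * x i)⁻¹, hcen (by simp only [map_mul, map_inv, hx]; rw [gen_comm hi hj h]; group),
      by rw [inv_mul_cancel_right]⟩
  have hzero : x 9 * x 0 = x 0 * x 9 := by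
    obtain ⟨u, huc, hu0⟩ := hu 9 0 (by norm_num) (by norm_num) (by decide)
    have step : ∀ j k, j < 10 → k < 10 → edgeX 9 k = false → edgeX j k = true →
        x 9 * x j = u * (x j * x 9) → x 9 * x k = u * (x k * x 9) := by
      intro j k hj hk h9k hjk hju
      obtain ⟨v, hvc, hv⟩ := hu 9 k (by norm_num) hk h9k
      rw [eq_of_chain huc hvc hju hv (hb j k hj hk hjk)]
      exact hv
    have hj : ∀ j ∈ sevenA, x 9 * x j = u * (x j * x 9) := by
      have h1 := step 0 1 (by norm_num) (by norm_num) (by decide) (by decide) hu0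
      have h2 := step 1 2 (by norm_num) (by norm_num) (by decide) (by decide) h1
      have h3 := step 2 3 (by norm_num) (by norm_num) (by decide) (by decide) h2
      have h4 := step 3 4 (by norm_num) (by norm_num) (by decide) (by decide) h3
      have h5 := step 4 5 (by norm_num) (by norm_num) (by decide) (by decide) h4
      have h7 := step 3 7 (by norm_num) (by norm_num) (by decide) (by decide) h3
      intro j hj
      simp only [sevenA, Fi22Mult.sevenA, List.mem_cons, List.not_mem_nil, or_false] at hj
      rcases hj with rfl | rfl | rfl | rfl | rfl | rfl | rfl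
      exacts [hu0, h1, h2, h3, h4, h5, h7]
    have hw : ∀ w : List ℕ, (∀ j ∈ w, j ∈ sevenA) → x 9 * val x w = u ^ w.length * (val x w * x 9) := by
      intro w
      induction w with
      | nil => simp [val]
      | cons j w ih =>
        intro hw
        have h1 := hj j (hw j List.mem_cons_self)
        have h2 := ih fun k hk => hw k (List.mem_cons_of_mem _ hk)
        rw [val_cons, List.length_cons, pow_succ']
        calc x 9 * (x j * val x w) = u * (x j * (x 9 * val x w)) := by
              rw [← mul_assoc, h1]; simp only [mul_assoc]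
          _ = u * (x j * u ^ w.length * (val x w * x 9)) := by rw [h2]; simp only [mul_assoc]
          _ = u * (u ^ w.length * x j * (val x w * x 9)) := by
              rw [(Commute.pow_right (show Commute (x j) u from huc (x j)) w.length).eq]
          _ = _ := by simp only [mul_assoc]
    have hmem : ∀ j ∈ repW 9 sevenA, j ∈ sevenA := by decide
    have h63 := hw _ hmem
    have hcomm : x 9 * val x (repW 9 sevenA) = val x (repW 9 sevenA) * x 9 :=
      hcen (by rw [val_map σ hx, val_repW, sevenA_one]) (x 9)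
    rw [hcomm, show (repW 9 sevenA).length = 63 by decide, right_eq_mul] at h63
    have hu2 : u * u = 1 := by
      have e := hsqc 9 (x 0)
      have e' : x 9 * x 9 * x 0 = u * u * (x 0 * (x 9 * x 9)) := by
        rw [mul_assoc (x 9), hu0, ← mul_assoc (x 9), huc (x 9), mul_assoc u, ← mul_assoc (x 9) (x 0), hu0]
        simp only [mul_assoc]
      rw [← e, right_eq_mul] at e'
      exact e'
    have hu1 : u = 1 := by
      have : (u * u) ^ 31 * u = u ^ 63 := by rw [← pow_two, ← pow_mul, ← pow_succ]
      rwa [h63, hu2, one_pow, one_mul] at this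
    rw [hu0, hu1, one_mul]
  have hsat : ∀ n, ∀ p ∈ satN n, x p.1 * x p.2 = x p.2 * x p.1 := by
    intro n
    induction n with
    | zero =>
      intro p hp
      simp only [satN, List.mem_singleton] at hp
      subst hp
      exact hzero
    | succ n ih =>
      intro p hp
      simp only [satN, satStep, List.mem_append, List.mem_flatMap, List.mem_filterMap, List.mem_range,
        Option.ite_none_right_eq_some, Option.some.injEq, Bool.and_eq_true, Bool.not_eq_true',
        List.any_eq_true, Bool.or_eq_true, Nat.beq_eq] at hp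
      rcases hp with hp | ⟨i, hi, k, hk, ⟨⟨hik, -⟩, j, hj, ⟨⟨hij, -⟩, hjk⟩, q, hq, hqe⟩, rfl⟩
      · exact ih p hp
      · have hcomm : x i * x j = 1 * (x j * x i) := by
          rw [one_mul]
          rcases hqe with ⟨e1, e2⟩ | ⟨e1, e2⟩
          · rw [← e1, ← e2]; exact ih q hq
          · rw [← e1, ← e2]; exact (ih q hq).symm
        obtain ⟨v, hvc, hv⟩ := hu i k hi hk hik
        have := eq_of_chain (fun g => by rw [mul_one, one_mul]) hvc hcomm hv (hb j k hj hk hjk)
        rw [← this, one_mul] at hv
        exact hv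
  intro i j hi hj hij hne
  have h := List.all_eq_true.1 (List.all_eq_true.1 sat_all i (List.mem_range.2 hi)) j (List.mem_range.2 hj)
  simp only [Bool.or_eq_true, List.any_eq_true, Bool.and_eq_true, Nat.beq_eq, hij, Bool.false_eq_true,
    false_or] at h
  obtain ⟨q, hq, hqe⟩ := h.resolve_left hne
  rcases hqe with ⟨e1, e2⟩ | ⟨e1, e2⟩
  · rw [← e1, ← e2]; exact hsat 12 q hq
  · rw [← e1, ← e2]; exact (hsat 12 q hq).symm

/-- lifts satisfying all relations but the spider relation -/
structure Norm (σ : Γ →* Fi23) (y : ℕ → Γ) : Prop where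
  map : ∀ i, σ (y i) = gen i
  braid : ∀ i j, i < 10 → j < 10 → edgeX i j = true → y i * y j * y i = y j * y i * y j
  comm : ∀ i j, i < 10 → j < 10 → edgeX i j = false → i ≠ j → y i * y j = y j * y i
  sq : ∀ i, i < 10 → y i * y i = 1
  seven : val y sevenA ^ 9 = 1

theorem val_mul_central {x : ℕ → Γ} {z : Γ} (hz : ∀ g, g * z = z * g) :
    ∀ w, val (fun i => x i * z) w = val x w * z ^ w.length
  | [] => by simp [val]
  | a :: w => by
    rw [val_cons, val_cons, val_mul_central hz w, List.length_cons, pow_succ]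
    have h : Commute z (val x w * z ^ w.length) := (hz _).symm
    calc x a * z * (val x w * z ^ w.length) = x a * (z * (val x w * z ^ w.length)) := mul_assoc _ _ _
      _ = _ := by rw [h.eq]; simp only [mul_assoc]

theorem exists_norm (σ : Γ →* Fi23) (hs : Function.Surjective σ) (hc : σ.ker ≤ Subgroup.center Γ) :
    ∃ y : ℕ → Γ, Norm σ y := by
  obtain ⟨x, hx, hb⟩ := exists_braided σ hs hc
  have hcomm := comm_lift σ hc hx hb
  have hcen : ∀ {g : Γ}, σ g = 1 → ∀ h, h * g = g * h := fun hg => Subgroup.mem_center_iff.1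
    (hc (MonoidHom.mem_ker.2 hg))
  have hsq : ∀ i < 10, x i * x i = x 0 * x 0 := by
    intro i
    induction i using Nat.strong_induction_on with
    | _ i ih =>
      intro hi
      by_cases h0 : i = 0
      · rw [h0]
      obtain ⟨hlt, he⟩ := par_lt i hi (Nat.pos_of_ne_zero h0)
      rw [← ih _ hlt (by omega)]
      have h := hb _ _ (by omega) hi he
      generalize x (parN i) = a at h ⊢
      have hbc : ∀ g, g * (x i * x i) = x i * x i * g := hcen (by rw [map_mul, hx, gen_sq])
      generalize x i = b at h hbc ⊢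
      have hc1 : a * b * (a * a) = b * b * (a * b) := by
        calc a * b * (a * a) = (a * b * a) * a := by simp only [mul_assoc]
          _ = b * a * b * a := by rw [h]
          _ = b * (a * b * a) := by simp only [mul_assoc]
          _ = b * b * (a * b) := by rw [h]; simp only [mul_assoc]
      rw [← hbc] at hc1
      exact (mul_left_cancel hc1).symm
  let T := x 0 * x 0
  have hT : ∀ g, g * T = T * g := hcen (by rw [map_mul, hx, gen_sq])
  have hB : Braided x T :=
    ⟨fun i j hi hj h => hb i j (by omega) (by omega) (by rw [edgeX_of_lt i hi j hj]; exact h),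
      fun i j hi hj h hne => hcomm i j (by omega) (by omega) (by rw [edgeX_of_lt i hi j hj]; exact h) hne,
      fun i hi => hsq i (by omega), hT⟩
  let Z := val x sevenA ^ 9
  have hZσ : σ Z = 1 := by rw [map_pow, val_map σ hx, sevenA_one]
  have hZ : Z ^ 2 = T ^ 63 := hB.seven Fi22Mult.movesA_ok
  let q := Z * (T ^ 31)⁻¹
  have hqσ : σ q = 1 := by
    simp only [q, T, map_mul, map_inv, map_pow, hZσ, hx, gen_sq, one_pow, inv_one, mul_one]
  have hq2 : q * q = T := by
    have h1 : Commute Z (T ^ 31)⁻¹ := ((show Commute Z T from hT Z).pow_right 31).inv_right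
    rw [← pow_two, h1.mul_pow, hZ, inv_pow, ← pow_mul, mul_inv_eq_iff_eq_mul, ← pow_succ']
  have hzc : ∀ g, g * q⁻¹ = q⁻¹ * g := hcen (by rw [map_inv, hqσ, inv_one])
  have hmv : ∀ a b : Γ, a * q⁻¹ * (b * q⁻¹) = a * b * (q⁻¹ * q⁻¹) := fun a b => by
    rw [mul_assoc a, ← mul_assoc q⁻¹ b, ← hzc b]; simp only [mul_assoc]
  refine ⟨fun i => x i * q⁻¹, ⟨fun i => by rw [map_mul, map_inv, hqσ, inv_one, mul_one, hx], ?_, ?_, ?_, ?_⟩⟩
  · intro i j hi hj h
    simp only [hmv]
    rw [mul_assoc (x i * x j), ← mul_assoc (q⁻¹ * q⁻¹) (x i), mul_assoc q⁻¹ q⁻¹ (x i), ← hzc (x i),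
      ← mul_assoc q⁻¹ (x i), ← hzc (x i)]
    conv_rhs => rw [mul_assoc (x j * x i), ← mul_assoc (q⁻¹ * q⁻¹) (x j), mul_assoc q⁻¹ q⁻¹ (x j), ← hzc (x j),
      ← mul_assoc q⁻¹ (x j), ← hzc (x j)]
    simp only [← mul_assoc]
    rw [hb i j hi hj h]
  · intro i j hi hj h hne
    simp only [hmv]
    rw [hcomm i j hi hj h hne]
  · intro i hi
    simp only [hmv]
    rw [hsq i hi, ← mul_inv_rev, hq2, mul_inv_cancel]
  · rw [val_mul_central hzc, (show Commute (val x sevenA) (q⁻¹ ^ sevenA.length) from
      (show Commute (val x sevenA) q⁻¹ from hzc _).pow_right _).mul_pow, ← pow_mul]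
    have h63 : q ^ 63 = Z := by
      rw [show (63 : ℕ) = 2 * 31 + 1 from rfl, pow_succ, pow_mul, pow_two, hq2]
      have hq : q = Z * (T ^ 31)⁻¹ := rfl
      rw [hq, ← mul_assoc, ← hT' hT Z 31, mul_inv_cancel_right]
    show Z * q⁻¹ ^ (7 * 9) = 1
    rw [inv_pow, h63, mul_inv_cancel]
where
  hT' {T : Γ} (hT : ∀ g, g * T = T * g) (Z : Γ) (n : ℕ) : Z * T ^ n = T ^ n * Z :=
    ((show Commute Z T from hT Z).pow_right n).eq

end CfsgLib.KnownB.Fi23Mult
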