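import Cfsg.Agent.Lib.KnownB.Fi23Mult.Data
import Cfsg.Agent.Lib.KnownB.Fi23Mult.Lifts
import Cfsg.Agent.Lib.KnownB.Fi23Mult.KillSteps

/-!
Every stem extension of `Fi₂₃` is an isomorphism, given finitely many identities of words in the
presented group.  The spider relator lifts to a central element `P` of order dividing three which
is a product of four translations; an element which inverts the first two and, after multiplying by
transpositions commuting with their quotient, the last two, shows that `P = P⁻¹`.
-/

set_option autoImplicit false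
set_option maxRecDepth 100000
set_option Elab.async false

namespace CfsgLib.KnownB.Fi23Mult

open Cfsg.Spor
open scoped commutatorElement
open CfsgLib.KnownB.Fi22Mult (val val_cons val_append repW val_repW Braided reducesTo)

/-- first translation -/
def transB : List ℕ := 1 :: pairB

/-- second translation -/
def transC : List ℕ := 2 :: pairC

/-- third translation -/
def transE : List ℕ := 4 :: pairE

/-- fourth translation -/
def transF : List ℕ := 5 :: pairF

/-- the element of order three -/
def uWord : List ℕ := transB ++ transC.reverse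

/-- the cubes -/
def cubesWord : List ℕ := (cubeParts.map fun p => repW 3 (p.1 ++ p.2)).flatten

/-- the first conjugating element -/
def vWord : List ℕ := confV.flatten

/-- the second conjugating element -/
def qWord : List ℕ := confW.flatten ++ confV.flatten

/-- words to be trivial in `Fi₂₃` -/
def goodWords : List (List ℕ) :=
  [vWord.reverse ++ [1] ++ vWord ++ pairB, vWord.reverse ++ pairB ++ vWord ++ [1],
   vWord.reverse ++ [2] ++ vWord ++ pairC, vWord.reverse ++ pairC ++ vWord ++ [2],
   qWord.reverse ++ [4] ++ qWord ++ pairE, qWord.reverse ++ pairE ++ qWord ++ [4],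
   qWord.reverse ++ [5] ++ qWord ++ pairF, qWord.reverse ++ pairF ++ qWord ++ [5]] ++
  confW.map (fun x => x ++ uWord ++ x ++ uWord.reverse) ++
  cubeParts.map fun p => repW 3 (p.1 ++ p.2)

theorem movesP_ok : reducesTo movesP (repW 10 spiderW ++
    (transB ++ transC.reverse ++ transE ++ transF.reverse ++ cubesWord).reverse) 198 = true := by
  rw [show (repW 10 spiderW ++
    (transB ++ transC.reverse ++ transE ++ transF.reverse ++ cubesWord).reverse) = stageW0 by decide +kernel,
    reducesTo, movesP_run]
  rfl

theorem movesBC_ok :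
    reducesTo movesBC (transB ++ transC.reverse ++ transB.reverse ++ transC) 48 = true := by
  decide +kernel

theorem movesEF_ok :
    reducesTo movesEF (transE ++ transF.reverse ++ transE.reverse ++ transF) 48 = true := by
  decide +kernel

/-- palindromes in the first ten letters -/
def palin (w : List ℕ) : Bool := (w.reverse == w) && w.all fun i => Nat.blt i 10

theorem cubeParts_ok : (cubeParts.all fun p => palin p.1 && palin p.2) = true := by decide +kernel

theorem confW_ok : (confW.all palin) = true := by decide +kernel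

theorem words_ok : palin pairB = true ∧ palin pairC = true ∧ palin pairE = true ∧ palin pairF = true ∧
    palin (vWord.reverse ++ [1] ++ vWord) = true ∧ palin (vWord.reverse ++ pairB ++ vWord) = true ∧
    palin (vWord.reverse ++ [2] ++ vWord) = true ∧ palin (vWord.reverse ++ pairC ++ vWord) = true ∧
    palin (qWord.reverse ++ [4] ++ qWord) = true ∧ palin (qWord.reverse ++ pairE ++ qWord) = true ∧
    palin (qWord.reverse ++ [5] ++ qWord) = true ∧ palin (qWord.reverse ++ pairF ++ qWord) = true := by
  decide +kernel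

variable {Γ : Type*} [Group Γ]

theorem val_singleton (f : ℕ → Γ) (a : ℕ) : val f [a] = f a := by simp [val]

theorem trans_inverse {g x p : Γ} (hx : x * x = 1) (hp : p * p = 1) (h1 : g⁻¹ * x * g = p)
    (h2 : g⁻¹ * p * g = x) : g⁻¹ * (x * p) * g = (x * p)⁻¹ := by
  rw [mul_inv_rev, inv_eq_of_mul_eq_one_right hx, inv_eq_of_mul_eq_one_right hp,
    show g⁻¹ * (x * p) * g = (g⁻¹ * x * g) * (g⁻¹ * p * g) by group, h1, h2]

theorem conj_div {g a b : Γ} (ha : g⁻¹ * a * g = a⁻¹) (hb : g⁻¹ * b * g = b⁻¹) :
    g⁻¹ * (a * b⁻¹) * g = a⁻¹ * b := by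
  rw [show g⁻¹ * (a * b⁻¹) * g = (g⁻¹ * a * g) * (g⁻¹ * b * g)⁻¹ by group, ha, hb, inv_inv]

theorem commute_of_word {a b : Γ} (h : a * b⁻¹ * a⁻¹ * b = 1) : a⁻¹ * b = b * a⁻¹ := by
  have e : a * b⁻¹ = b⁻¹ * a := by
    calc a * b⁻¹ = (a * b⁻¹ * a⁻¹ * b) * (b⁻¹ * a) := by group
      _ = b⁻¹ * a := by rw [h, one_mul]
  exact ((Commute.inv_right_iff.1 (show Commute a b⁻¹ from e)).inv_left).eq

theorem ker_le (σ : Γ →* Fi23) (hs : Function.Surjective σ) (hc : σ.ker ≤ Subgroup.center Γ)
    (hd : σ.ker ≤ commutator Γ) {y : ℕ → Γ} (hy : Norm σ y) :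
    σ.ker ≤ Subgroup.zpowers (val y spiderW ^ 10) := by
  have hperf : commutator Γ = ⊤ := by
    refine eq_top_iff.2 fun g _ => ?_
    have hg : σ g ∈ (commutator Γ).map σ := by
      rw [commutator_def, Subgroup.map_commutator, Subgroup.map_top_of_surjective σ hs, ← commutator_def,
        commutator_eq_top]
      exact Subgroup.mem_top _
    obtain ⟨d, hdm, he⟩ := hg
    have : d⁻¹ * g ∈ commutator Γ := hd (by rw [MonoidHom.mem_ker, map_mul, map_inv, he, inv_mul_cancel])
    simpa using mul_mem hdm this
  set L : Subgroup Γ := Subgroup.closure (y '' {i | i < 10}) with hL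
  have hLA : ∀ g : Γ, ∃ l ∈ L, ∃ a ∈ σ.ker, g = l * a := by
    intro g
    have hg : σ g ∈ L.map σ := by
      have : (⊤ : Subgroup Fi23) ≤ L.map σ := by
        rw [← PresentedGroup.closure_range_of, Subgroup.closure_le]
        rintro _ ⟨k, rfl⟩
        exact ⟨y (posG k), Subgroup.subset_closure ⟨_, posG_lt k, rfl⟩, by rw [hy.map, gen, ndG_posG]⟩
      exact this (Subgroup.mem_top _)
    obtain ⟨l, hl, he⟩ := hg
    exact ⟨l, hl, l⁻¹ * g, by rw [MonoidHom.mem_ker, map_mul, map_inv, he, inv_mul_cancel], by group⟩
  have hLtop : L = ⊤ := by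
    rw [eq_top_iff, ← hperf, commutator_def, Subgroup.commutator_le]
    intro p _ q _
    obtain ⟨l, hl, a, ha, rfl⟩ := hLA p
    obtain ⟨l', hl', a', ha', rfl⟩ := hLA q
    have ca : ∀ g, g * a = a * g := Subgroup.mem_center_iff.1 (hc ha)
    have ca' : ∀ g, g * a' = a' * g := Subgroup.mem_center_iff.1 (hc ha')
    have e : ⁅l * a, l' * a'⁆ = ⁅l, l'⁆ := by
      simp only [commutatorElement_def, mul_inv_rev]
      rw [show l * a * (l' * a') * (a⁻¹ * l⁻¹) * (a'⁻¹ * l'⁻¹) = l * (a * (l' * a') * a⁻¹) * (l⁻¹ * a'⁻¹) * l'⁻¹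
        by group, ← ca (l' * a'), mul_inv_cancel_right,
        show l * (l' * a') * (l⁻¹ * a'⁻¹) * l'⁻¹ = l * l' * (a' * l⁻¹ * a'⁻¹) * l'⁻¹ by group,
        ← ca' l⁻¹, mul_inv_cancel_right]
    rw [e, commutatorElement_def]
    exact mul_mem (mul_mem (mul_mem hl hl') (inv_mem hl)) (inv_mem hl')
  let K : Subgroup Γ := Subgroup.zpowers (val y spiderW ^ 10)
  have hKc : K ≤ Subgroup.center Γ := by
    rw [Subgroup.zpowers_le]
    exact hc (by rw [MonoidHom.mem_ker, map_pow, val_map σ hy.map, spider_one])
  haveI : K.Normal := ⟨fun k hk g => by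
    rw [Subgroup.mem_center_iff.1 (hKc hk) g, mul_inv_cancel_right]; exact hk⟩
  let mk := QuotientGroup.mk' K
  have hrels : ∀ r ∈ coxRelators Fi23.edges ∪ {r | r ∈ Fi23.extra},
      FreeGroup.lift (fun g => mk (y (posG g))) r = 1 := by
    intro r hr
    have hlift : ∀ r, FreeGroup.lift (fun g => mk (y (posG g))) r =
        mk (FreeGroup.lift (fun g => y (posG g)) r) := by
      intro r
      refine (DFunLike.congr_fun (FreeGroup.ext_hom _ (mk.comp (FreeGroup.lift fun g => y (posG g))) ?_) r)
      intro g
      simp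
    rw [hlift]
    rcases hr with ⟨p, -, q, -, rfl⟩ | hr
    · simp only [map_pow, map_mul, FreeGroup.lift_apply_of]
      have hp := posG_lt p
      have hq := posG_lt q
      rw [← map_mul, ← map_pow]
      rcases label_cases p q with ⟨rfl, hl⟩ | ⟨he, hl⟩ | ⟨he, hne, hl⟩ <;> rw [hl]
      · rw [pow_one, hy.sq _ hp, map_one]
      · have e := hy.braid _ _ hp hq he
        have e1 := hy.sq _ hp
        have e2 := hy.sq _ hq
        generalize y (posG p) = A at e e1 ⊢
        generalize y (posG q) = R at e e2 ⊢
        rw [show (A * R) ^ 3 = 1 by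
          calc (A * R) ^ 3 = (A * R * A) * (R * A * R) := by
                simp only [pow_succ, pow_zero, one_mul, mul_assoc]
            _ = R * A * (R * R) * A * R := by rw [e]; simp only [mul_assoc]
            _ = R * (A * A) * R := by rw [e2, mul_one]; simp only [mul_assoc]
            _ = 1 := by rw [e1, mul_one, e2], map_one]
      · have hpq : posG p ≠ posG q := fun h => hne (by rw [← ndG_posG p, h, ndG_posG])
        have e := hy.comm _ _ hp hq he hpq
        rw [pow_two, mul_assoc, ← mul_assoc (y (posG q)), ← e, mul_assoc (y (posG p)) (y (posG q)),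
          hy.sq _ hq, mul_one, hy.sq _ hp, map_one]
    · rw [Set.mem_setOf_eq, extra_eq] at hr
      simp only [List.mem_cons, List.not_mem_nil, or_false] at hr
      have hmap : ∀ (w : List ℕ), (∀ i ∈ w, i < 10) →
          FreeGroup.lift (fun g => y (posG g)) (w.map fun i => FreeGroup.of (ndG i)).prod = val y w := by
        intro w hw
        induction w with
        | nil => simp [val]
        | cons a w ih =>
          rw [List.map_cons, List.prod_cons, map_mul, FreeGroup.lift_apply_of,
            ih fun i hi => hw i (List.mem_cons_of_mem _ hi), val_cons, posG_ndG a (hw a List.mem_cons_self)]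
      rcases hr with rfl | rfl <;> rw [map_pow, hmap _ (by decide)]
      · exact (QuotientGroup.eq_one_iff _).2 (Subgroup.mem_zpowers _)
      · rw [hy.seven, map_one]
  let φ : Fi23 →* Γ ⧸ K := PresentedGroup.toGroup hrels
  have hφ : φ.comp σ = mk := by
    refine MonoidHom.eq_of_eqOn_dense (hL.symm.trans hLtop) ?_
    rintro _ ⟨i, hi, rfl⟩
    show φ (σ (y i)) = mk (y i)
    rw [hy.map, gen]
    refine (PresentedGroup.toGroup.of hrels).trans ?_
    rw [posG_ndG i hi]
  intro a ha
  have h1 := DFunLike.congr_fun hφ a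
  rw [MonoidHom.comp_apply, MonoidHom.mem_ker.1 ha, map_one] at h1
  exact (QuotientGroup.eq_one_iff a).1 h1.symm

theorem ker_eq_bot_of_good (hgood : ∀ w ∈ goodWords, val gen w = 1) (σ : Γ →* Fi23)
    (hσ : Cfsg.IsStemExtension σ) : σ.ker = ⊥ := by
  obtain ⟨hs, hc, hd⟩ := hσ
  obtain ⟨y, hy⟩ := exists_norm σ hs hc
  have hcen : ∀ {g : Γ}, σ g = 1 → ∀ h, h * g = g * h := fun hg => Subgroup.mem_center_iff.1
    (hc (MonoidHom.mem_ker.2 hg))
  have hB : Braided y (1 : Γ) :=
    ⟨fun i j hi hj h => hy.braid i j (by omega) (by omega) (by rw [edgeX_of_lt i hi j hj]; exact h),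
      fun i j hi hj h hne => hy.comm i j (by omega) (by omega) (by rw [edgeX_of_lt i hi j hj]; exact h) hne,
      fun i hi => hy.sq i (by omega), fun g => by rw [mul_one, one_mul]⟩
  have hσv : ∀ w, σ (val y w) = val gen w := fun w => val_map σ hy.map w
  let P := val y spiderW ^ 10
  have hPσ : σ P = 1 := by rw [map_pow, hσv, spider_one]
  have hP3 : P ^ 3 = 1 := (hB.spider (hcen hPσ)).trans (one_pow _)
  -- the kernel is generated by `P`
  have hker : σ.ker ≤ Subgroup.zpowers P := ker_le σ hs hc hd hy
  -- lifts of involutions are unique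
  have huniq : ∀ z : Γ, σ z = 1 → z * z = 1 → z = 1 := by
    intro z hz h2
    obtain ⟨k, rfl⟩ := hker (MonoidHom.mem_ker.2 hz)
    have h3 : (P ^ k) ^ 3 = 1 := by
      rw [← zpow_natCast, ← zpow_mul, mul_comm, zpow_mul, zpow_natCast, hP3, one_zpow]
    rwa [pow_succ, pow_two, h2, one_mul] at h3
  have hinv : ∀ u v : Γ, σ u = σ v → u * u = 1 → v * v = 1 → u = v := by
    intro u v he hu hv
    have hz : σ (u⁻¹ * v) = 1 := by rw [map_mul, map_inv, he, inv_mul_cancel]
    have := huniq _ hz (by
      calc u⁻¹ * v * (u⁻¹ * v) = u⁻¹ * (u⁻¹ * v * v) := by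
            rw [mul_assoc u⁻¹ v, hcen hz v]
        _ = (u * u)⁻¹ * (v * v) := by group
        _ = 1 := by rw [hu, hv]; group)
    exact inv_mul_eq_one.1 this
  have hrev : ∀ w : List ℕ, (∀ i ∈ w, i < 10) → val y w * val y w.reverse = 1 := by
    intro w
    induction w with
    | nil => intro _; simp [val]
    | cons a w ih =>
      intro h
      rw [List.reverse_cons, val_append, val_cons, val_singleton, mul_assoc, ← mul_assoc (val y w),
        ih fun i hi => h i (List.mem_cons_of_mem _ hi), one_mul, hy.sq a (h a List.mem_cons_self)]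
  have hpal : ∀ {w}, palin w = true → (∀ i ∈ w, i < 10) ∧ val y w * val y w = 1 := by
    intro w h
    simp only [palin, Bool.and_eq_true, beq_iff_eq, List.all_eq_true, Nat.blt_eq] at h
    refine ⟨h.2, ?_⟩
    conv_lhs => arg 2; rw [← h.1]
    exact hrev w h.2
  -- conjugation relations between transpositions hold for the lifts
  have hrevInv : ∀ w : List ℕ, (∀ i ∈ w, i < 10) → val y w.reverse = (val y w)⁻¹ := fun w h =>
    eq_inv_of_mul_eq_one_right (hrev w h)
  have hconj : ∀ (A p q : List ℕ), (∀ i ∈ A, i < 10) → palin (A.reverse ++ p ++ A) = true →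
      palin q = true → A.reverse ++ p ++ A ++ q ∈ goodWords →
      (val y A)⁻¹ * val y p * val y A = val y q := by
    intro A p q hA h1 h2 hm
    have e := hgood _ hm
    rw [val_append, ← hσv, ← hσv q] at e
    have hq := (hpal h2).2
    have := hinv (val y (A.reverse ++ p ++ A)) (val y q)
      (by rw [eq_inv_of_mul_eq_one_left e, inv_eq_of_mul_eq_one_right (by rw [← map_mul, hq, map_one])])
      (hpal h1).2 hq
    rwa [val_append, val_append, hrevInv A hA] at this
  obtain ⟨pb, pc, pe, pf, v1, v2, v3, v4, v5, v6, v7, v8⟩ := words_ok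
  have hV : ∀ i ∈ vWord, i < 10 := fun i hi => (hpal v1).1 i (List.mem_append_right _ hi)
  have hQ : ∀ i ∈ qWord, i < 10 := fun i hi => (hpal v5).1 i (List.mem_append_right _ hi)
  have hp1 : ∀ a < 10, palin [a] = true := by decide
  let V := val y vWord
  let Q := val y qWord
  let b := val y transB
  let c := val y transC
  let e := val y transE
  let f := val y transF
  have hVb : V⁻¹ * b * V = b⁻¹ := by
    rw [show b = y 1 * val y pairB from val_cons _ _ _, ← val_singleton y 1]
    exact trans_inverse (hpal (hp1 1 (by norm_num))).2 (hpal pb).2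
      (hconj _ _ _ hV v1 pb (by simp [goodWords])) (hconj _ _ _ hV v2 (hp1 1 (by norm_num)) (by simp [goodWords]))
  have hVc : V⁻¹ * c * V = c⁻¹ := by
    rw [show c = y 2 * val y pairC from val_cons _ _ _, ← val_singleton y 2]
    exact trans_inverse (hpal (hp1 2 (by norm_num))).2 (hpal pc).2
      (hconj _ _ _ hV v3 pc (by simp [goodWords])) (hconj _ _ _ hV v4 (hp1 2 (by norm_num)) (by simp [goodWords]))
  have hQe : Q⁻¹ * e * Q = e⁻¹ := by
    rw [show e = y 4 * val y pairE from val_cons _ _ _, ← val_singleton y 4]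
    exact trans_inverse (hpal (hp1 4 (by norm_num))).2 (hpal pe).2
      (hconj _ _ _ hQ v5 pe (by simp [goodWords])) (hconj _ _ _ hQ v6 (hp1 4 (by norm_num)) (by simp [goodWords]))
  have hQf : Q⁻¹ * f * Q = f⁻¹ := by
    rw [show f = y 5 * val y pairF from val_cons _ _ _, ← val_singleton y 5]
    exact trans_inverse (hpal (hp1 5 (by norm_num))).2 (hpal pf).2
      (hconj _ _ _ hQ v7 pf (by simp [goodWords])) (hconj _ _ _ hQ v8 (hp1 5 (by norm_num)) (by simp [goodWords]))
  have htr : ∀ {w : List ℕ} {a : ℕ}, a < 10 → palin w = true → ∀ i ∈ a :: w, i < 10 := by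
    intro w a ha hw i hi
    rcases List.mem_cons.1 hi with rfl | hi
    · exact ha
    · exact (hpal hw).1 i hi
  have hbr := hrevInv transB (htr (by norm_num) pb)
  have hcr := hrevInv transC (htr (by norm_num) pc)
  have her := hrevInv transE (htr (by norm_num) pe)
  have hfr := hrevInv transF (htr (by norm_num) pf)
  have hbc : b⁻¹ * c = c * b⁻¹ := by
    have h := hB.reduces movesBC_ok
    rw [val_append, val_append, val_append, hbr, hcr, one_pow] at h
    exact commute_of_word h
  have hef : e⁻¹ * f = f * e⁻¹ := by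
    have h := hB.reduces movesEF_ok
    rw [val_append, val_append, val_append, her, hfr, one_pow] at h
    exact commute_of_word h
  -- the transpositions of `confW` centralise `u`
  let u := b * c⁻¹
  have huW : val y uWord = u := by rw [uWord, val_append, hcr]
  have hVu : V⁻¹ * u * V = u⁻¹ := by
    rw [conj_div hVb hVc, mul_inv_rev, inv_inv, hbc]
  have hx : ∀ x ∈ confW, val y x * u * val y x = u := by
    intro x hxm
    have hp := (hpal (List.all_eq_true.1 confW_ok x hxm)).2
    have hm : x ++ uWord ++ x ++ uWord.reverse ∈ goodWords :=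
      List.mem_append_left _ (List.mem_append_right _ (List.mem_map_of_mem hxm))
    have hg := hgood _ hm
    have hur : val y uWord.reverse = u⁻¹ := by
      rw [hrevInv uWord ?_, huW]
      intro i hi
      rcases List.mem_append.1 hi with h | h
      · exact htr (by norm_num) pb i h
      · exact htr (by norm_num) pc i (List.mem_reverse.1 h)
    rw [← hσv, val_append, val_append, val_append, huW, hur] at hg
    obtain ⟨z, hz⟩ : ∃ z, z = val y x * u * val y x * u⁻¹ := ⟨_, rfl⟩
    rw [← hz] at hg
    have hzc := hcen hg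
    have e1 : val y x * u * val y x = z * u := by rw [hz]; group
    have e2 : u = z * (z * u) := by
      calc u = val y x * (val y x * u * val y x) * val y x := by
            simp only [← mul_assoc, hp, one_mul]; rw [mul_assoc, hp, mul_one]
        _ = val y x * (z * u) * val y x := by rw [e1]
        _ = z * (val y x * u * val y x) := by
            rw [← mul_assoc (val y x), hzc (val y x)]; simp only [mul_assoc]
        _ = z * (z * u) := by rw [e1]
    rw [← mul_assoc, right_eq_mul] at e2
    rw [e1, huniq z hg e2, one_mul]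
  have hWu : (val y confW.flatten)⁻¹ * u * val y confW.flatten = u := by
    have key : ∀ L : List (List ℕ), (∀ x ∈ L, x ∈ confW) → (val y L.flatten)⁻¹ * u * val y L.flatten = u := by
      intro L
      induction L with
      | nil => simp [val]
      | cons x L ih =>
        intro h
        have hp := (hpal (List.all_eq_true.1 confW_ok x (h x List.mem_cons_self))).2
        rw [List.flatten_cons, val_append, mul_inv_rev, inv_eq_of_mul_eq_one_right hp,
          show (val y L.flatten)⁻¹ * val y x * u * (val y x * val y L.flatten) =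
            (val y L.flatten)⁻¹ * (val y x * u * val y x) * val y L.flatten by group,
          hx x (h x List.mem_cons_self)]
        exact ih fun z hz => h z (List.mem_cons_of_mem _ hz)
    exact key confW fun _ h => h
  have hQu : Q⁻¹ * u * Q = u⁻¹ := by
    show (val y (confW.flatten ++ confV.flatten))⁻¹ * u * val y (confW.flatten ++ confV.flatten) = u⁻¹
    rw [val_append, mul_inv_rev, show (val y confV.flatten)⁻¹ * (val y confW.flatten)⁻¹ * u *
      (val y confW.flatten * val y confV.flatten) =
      (val y confV.flatten)⁻¹ * ((val y confW.flatten)⁻¹ * u * val y confW.flatten) * val y confV.flatten by group,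
      hWu]
    exact hVu
  -- the cubes are trivial
  have hcube : ∀ p ∈ cubeParts, val y (repW 3 (p.1 ++ p.2)) = 1 := by
    intro p hp
    have ok := List.all_eq_true.1 cubeParts_ok p hp
    rw [Bool.and_eq_true] at ok
    have h1 := (hpal ok.1).2
    have h2 := (hpal ok.2).2
    have hg := hgood (repW 3 (p.1 ++ p.2)) (List.mem_append_right _ (List.mem_map.2 ⟨p, hp, rfl⟩))
    rw [← hσv] at hg
    refine huniq _ hg ?_
    have hc3 := hcen hg
    rw [val_repW, val_append] at hc3 ⊢
    generalize val y p.1 = s at h1 hc3 ⊢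
    generalize val y p.2 = r at h2 hc3 ⊢
    have hs := inv_eq_of_mul_eq_one_right h1
    have hr := inv_eq_of_mul_eq_one_right h2
    have e1 : s⁻¹ * (s * r) * s = (s * r)⁻¹ := by
      rw [mul_inv_rev, inv_mul_cancel_left, hr, hs]
    have e2 : ((s * r) ^ 3)⁻¹ = (s * r) ^ 3 := by
      have hpow : (s⁻¹ * (s * r) * s) ^ 3 = s⁻¹ * (s * r) ^ 3 * s := by
        simp only [pow_succ, pow_zero, one_mul]; group
      rw [← inv_pow, ← e1, hpow, mul_assoc, ← hc3 s, inv_mul_cancel_left]
    nth_rewrite 1 [← e2]
    exact inv_mul_cancel _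
  have hC : val y cubesWord = 1 := by
    have key : ∀ L : List (List ℕ × List ℕ), (∀ p ∈ L, p ∈ cubeParts) →
        val y (L.map fun p => repW 3 (p.1 ++ p.2)).flatten = 1 := by
      intro L
      induction L with
      | nil => simp [val]
      | cons p L ih =>
        intro h
        rw [List.map_cons, List.flatten_cons, val_append, hcube p (h p List.mem_cons_self),
          ih fun z hz => h z (List.mem_cons_of_mem _ hz), one_mul]
    exact key cubeParts fun _ h => h
  have hlt : ∀ i ∈ transB ++ transC.reverse ++ transE ++ transF.reverse ++ cubesWord, i < 10 := by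
    decide +kernel
  have hPdef : P = u * (e * f⁻¹) := by
    have h := hB.reduces movesP_ok
    rw [val_append, hrevInv _ hlt, one_pow, val_repW] at h
    rw [show P = val y spiderW ^ 10 from rfl, mul_inv_eq_one.1 h, val_append, val_append, val_append,
      val_append, hcr, hfr, hC, mul_one]
    simp only [u, b, c, e, f, mul_assoc]
  have hPinv : P * P = 1 := by
    have hc := hcen hPσ
    have h1 : Q⁻¹ * P * Q = P := by rw [mul_assoc, ← hc Q, inv_mul_cancel_left]
    have h2 : P = u⁻¹ * (e⁻¹ * f) := by
      rw [← h1, hPdef, show Q⁻¹ * (u * (e * f⁻¹)) * Q = (Q⁻¹ * u * Q) * (Q⁻¹ * (e * f⁻¹) * Q) by group,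
        hQu, conj_div hQe hQf]
    have h3 : P⁻¹ = e⁻¹ * f * u⁻¹ := by rw [hPdef, hef]; group
    calc P * P = u * P * u⁻¹ * P := by rw [hc u, mul_assoc P u, mul_inv_cancel, mul_one]
      _ = P⁻¹ * P := by
          have : u * P * u⁻¹ = P⁻¹ := by rw [h3, h2]; group
          rw [this]
      _ = 1 := inv_mul_cancel _
  have hP1 : P = 1 := huniq P hPσ hPinv
  rw [eq_bot_iff]
  intro g hg
  obtain ⟨k, rfl⟩ := hker hg
  simp [hP1]

end CfsgLib.KnownB.Fi23Mult
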