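import Cfsg.Agent.Lib.KnownB.Fi22Mult.Words
import Cfsg.Prelude.Def_Spor_Fi23

/-! The presented group `Fi₂₃` in terms of numbered generators. -/

set_option autoImplicit false
set_option maxRecDepth 100000

namespace CfsgLib.KnownB.Fi23Mult

open Cfsg.Spor
open CfsgLib.KnownB.Fi22Mult (val edgeB val_cons val_append)

/-- number of a node (the nodes of `Y₃₃₂` first, then the letter `j`) -/
def posG : Fi23.Gen → ℕ
  | .a => 0
  | .b => 1
  | .c => 2
  | .d => 3
  | .e => 4
  | .f => 5
  | .g => 6
  | .h => 7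
  | .i => 8
  | .j => 9

/-- node of a number -/
def ndG (i : ℕ) : Fi23.Gen :=
  ([.a, .b, .c, .d, .e, .f, .g, .h, .i, .j] : List Fi23.Gen).getD i .a

/-- the edges of the diagram `Y₃₄₂` -/
def edgeX (i j : ℕ) : Bool :=
  edgeB i j || (Nat.beq i 6 && Nat.beq j 9) || (Nat.beq i 9 && Nat.beq j 6)

theorem ndG_posG (x : Fi23.Gen) : ndG (posG x) = x := by cases x <;> rfl

theorem posG_lt (x : Fi23.Gen) : posG x < 10 := by cases x <;> decide

theorem posG_ndG : ∀ i < 10, posG (ndG i) = i := by decide

theorem edgeX_of_lt : ∀ i < 9, ∀ j < 9, edgeX i j = edgeB i j := by decide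

theorem mem_nodes : ∀ x : Fi23.Gen, x ∈ coxNodes Fi23.edges := by intro x; cases x <;> decide

theorem label_cases (x y : Fi23.Gen) : (x = y ∧ coxLabel Fi23.edges x y = 1) ∨
    (edgeX (posG x) (posG y) = true ∧ coxLabel Fi23.edges x y = 3) ∨
    (edgeX (posG x) (posG y) = false ∧ x ≠ y ∧ coxLabel Fi23.edges x y = 2) := by
  cases x <;> cases y <;> decide

/-- a generator of the presented group -/
def gen (i : ℕ) : Fi23 := PresentedGroup.of (ndG i)

theorem cox_rel (x y : Fi23.Gen) :
    ((PresentedGroup.of x : Fi23) * PresentedGroup.of y) ^ coxLabel Fi23.edges x y = 1 := by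
  have h := PresentedGroup.one_of_mem (rels := coxRelators Fi23.edges ∪ {r | r ∈ Fi23.extra})
    (Or.inl ⟨x, mem_nodes x, y, mem_nodes y, rfl⟩ :
      (FreeGroup.of x * FreeGroup.of y) ^ coxLabel Fi23.edges x y ∈ _)
  rw [map_pow, map_mul] at h
  exact h

theorem gen_sq (i : ℕ) : gen i * gen i = 1 := by
  have h := cox_rel (ndG i) (ndG i)
  have hl : coxLabel Fi23.edges (ndG i) (ndG i) = 1 := by rw [coxLabel, if_pos rfl]
  rw [hl, pow_one] at h
  exact h

theorem gen_inv (i : ℕ) : (gen i)⁻¹ = gen i := inv_eq_of_mul_eq_one_right (gen_sq i)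

theorem edgeX_irrefl : ∀ i < 10, edgeX i i = false := by decide

theorem gen_braid {i j : ℕ} (hi : i < 10) (hj : j < 10) (h : edgeX i j = true) :
    gen i * gen j * gen i = gen j * gen i * gen j := by
  rcases label_cases (ndG i) (ndG j) with ⟨e, -⟩ | ⟨-, hl⟩ | ⟨e, -, -⟩
  · exfalso
    have hij : i = j := by
      have := congrArg posG e
      rwa [posG_ndG i hi, posG_ndG j hj] at this
    rw [hij, edgeX_irrefl j hj] at h
    exact Bool.noConfusion h
  · have h3 := cox_rel (ndG i) (ndG j)
    rw [hl] at h3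
    have h' : (gen i * gen j * gen i) * (gen j * gen i * gen j) = 1 := by
      rw [← h3]
      simp only [gen, pow_succ, pow_zero, one_mul, mul_assoc]
    rw [eq_inv_of_mul_eq_one_left h', mul_inv_rev, mul_inv_rev, gen_inv, gen_inv]
    simp only [mul_assoc]
  · rw [posG_ndG i hi, posG_ndG j hj, h] at e
    exact absurd e (by decide)

theorem gen_comm {i j : ℕ} (hi : i < 10) (hj : j < 10) (h : edgeX i j = false) :
    gen i * gen j = gen j * gen i := by
  rcases label_cases (ndG i) (ndG j) with ⟨e, -⟩ | ⟨e, -⟩ | ⟨-, -, hl⟩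
  · have hij : i = j := by
      have := congrArg posG e
      rwa [posG_ndG i hi, posG_ndG j hj] at this
    subst hij
    rfl
  · rw [posG_ndG i hi, posG_ndG j hj, h] at e
    exact absurd e (by decide)
  · have h2 := cox_rel (ndG i) (ndG j)
    rw [hl] at h2
    have h' : (gen i * gen j) * (gen i * gen j) = 1 := by
      rw [← h2, pow_two]
      rfl
    rw [eq_inv_of_mul_eq_one_left h', mul_inv_rev, gen_inv, gen_inv]

/-- the spider word -/
def spiderW : List ℕ := Fi22Mult.spiderW

/-- the word of type `E₇` -/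
def sevenA : List ℕ := Fi22Mult.sevenA

theorem extra_eq : Fi23.extra = [((spiderW.map fun i => FreeGroup.of (ndG i)).prod) ^ 10,
    ((sevenA.map fun i => FreeGroup.of (ndG i)).prod) ^ 9] := by
  simp [Fi23.extra, spiderW, sevenA, Fi22Mult.spiderW, Fi22Mult.sevenA, ndG, mul_assoc]

theorem val_mk {w : List ℕ} {n : ℕ}
    (h : ((w.map fun i => FreeGroup.of (ndG i)).prod) ^ n ∈ Fi23.extra) : val gen w ^ n = 1 := by
  have h' := PresentedGroup.one_of_mem (rels := coxRelators Fi23.edges ∪ {r | r ∈ Fi23.extra})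
    (Or.inr h : ((w.map fun i => FreeGroup.of (ndG i)).prod) ^ n ∈ _)
  rw [map_pow, map_list_prod, List.map_map] at h'
  exact h'

theorem spider_one : val gen spiderW ^ 10 = 1 := val_mk (by rw [extra_eq]; exact List.mem_cons_self)

theorem sevenA_one : val gen sevenA ^ 9 = 1 :=
  val_mk (by rw [extra_eq]; exact List.mem_cons_of_mem _ List.mem_cons_self)

theorem commutator_eq_top : commutator Fi23 = ⊤ := by
  rw [← Abelianization.ker_of, eq_top_iff, ← PresentedGroup.closure_range_of, Subgroup.closure_le]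
  rintro _ ⟨g, rfl⟩
  rw [SetLike.mem_coe, MonoidHom.mem_ker]
  let X : ℕ → Abelianization Fi23 := fun i => Abelianization.of (gen i)
  have hsq : ∀ i, X i * X i = 1 := fun i => by simp only [X, ← map_mul, gen_sq, map_one]
  have hedge : ∀ i j, i < 10 → j < 10 → edgeX i j = true → X i = X j := by
    intro i j hi hj h
    have e := congrArg Abelianization.of (gen_braid hi hj h)
    simp only [map_mul] at e
    change X i * X j * X i = X j * X i * X j at e
    rw [mul_right_comm, hsq, one_mul, mul_right_comm, hsq, one_mul] at e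
    exact e.symm
  have h1 : X 1 = X 0 := hedge 1 0 (by norm_num) (by norm_num) (by decide)
  have h2 : X 2 = X 0 := (hedge 2 1 (by norm_num) (by norm_num) (by decide)).trans h1
  have h3 : X 3 = X 0 := (hedge 3 2 (by norm_num) (by norm_num) (by decide)).trans h2
  have h4 : X 4 = X 0 := (hedge 4 3 (by norm_num) (by norm_num) (by decide)).trans h3
  have h5 : X 5 = X 0 := (hedge 5 4 (by norm_num) (by norm_num) (by decide)).trans h4
  have h6 : X 6 = X 0 := (hedge 6 5 (by norm_num) (by norm_num) (by decide)).trans h5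
  have h7 : X 7 = X 0 := (hedge 7 3 (by norm_num) (by norm_num) (by decide)).trans h3
  have h8 : X 8 = X 0 := (hedge 8 7 (by norm_num) (by norm_num) (by decide)).trans h7
  have h9 : X 9 = X 0 := (hedge 9 6 (by norm_num) (by norm_num) (by decide)).trans h6
  have hall : ∀ i < 10, X i = X 0 := by
    intro i hi
    interval_cases i
    exacts [rfl, h1, h2, h3, h4, h5, h6, h7, h8, h9]
  have h63 : X 0 ^ 63 = 1 := by
    have e := congrArg Abelianization.of sevenA_one
    simp only [sevenA, Fi22Mult.sevenA, val, List.map_cons, List.map_nil, List.prod_cons,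
      List.prod_nil, map_pow, map_mul, map_one, mul_one] at e
    change (X 0 * (X 1 * (X 2 * (X 3 * (X 4 * (X 5 * X 7)))))) ^ 9 = 1 at e
    rw [h1, h2, h3, h4, h5, h7] at e
    rw [← e, show (63 : ℕ) = 7 * 9 from rfl, pow_mul]
    congr 1
  have h1' : X 0 = 1 := by
    have : (X 0 * X 0) ^ 31 * X 0 = X 0 ^ 63 := by rw [← pow_two, ← pow_mul, ← pow_succ]
    rwa [h63, hsq, one_pow, one_mul] at this
  rw [← ndG_posG g]
  exact (hall _ (posG_lt g)).trans h1'

end CfsgLib.KnownB.Fi23Mult
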